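import Cfsg.Agent.Omega.ThmID.Plane
import Cfsg.Agent.ParSys.RankTwo
import Cfsg.Agent.ParSys.FreePan

/-!
# THEOREM ID, part 3: the parabolic system of `⟨P0, C_G(z)⟩`

`gpp_three`: a residue with `P i P j P i ⊆ P j P i P j` and no circuits of length four is a generalised triangle.
`gp`: if the parabolics `P j` of `C_G(z)` over `B` form a system of type `M`, then they form together with `P0 = ⟨A, B⟩` a
system of type `M'`, where the new node is joined to `j` by a single bond if `P j` moves `⟨z, a⟩` and is not joined to `j`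
if `P j` normalises `⟨z, a⟩`.  `sys`: the input of THEOREM FREE.
-/

set_option autoImplicit false

namespace Cfsg.Agent.Omega.ThmID

open Cfsg.Agent.Co2Type.Quad Cfsg.Agent.LargeExtra.Base Cfsg.Agent.ParSys Cfsg.Agent.ParSys.Free
  Cfsg.Agent.ParSys.RankTwo

variable {G : Type*} [Group G]

section triangle

variable {I : Type*} {B : Subgroup G} {P : I → Subgroup G}

/-- **The residue is a generalised triangle.** -/
theorem gpp_three (hBP : ∀ i, B ≤ P i) {i j : I}
    (hpt : ∀ p ∈ P i, ∀ q ∈ P j, ∀ p' ∈ P i, ∃ b ∈ P j, ∃ x ∈ P i, ∃ b' ∈ P j, p * q * p' = b * x * b')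
    (hgi : ∀ x ∈ P i, ∀ b ∈ P j, ∀ b' ∈ P j, ∀ x' ∈ P i, x * b = b' * x' → x ∈ B ∨ b ∈ B)
    (hinf : ∀ x, x ∈ P i → x ∈ P j → x ∈ B) : GPp B P i j 3 := by
  intro c l hl
  induction c using QuotientGroup.induction_on with
  | _ g =>
  obtain ⟨k, hk, rfl⟩ := exists_chm hBP hl
  match k, hk with
  | [], hk => exact hk.elim
  | [_], hk => exact hk.2.elim
  | [_, _], hk => exact hk.2.2.elim
  | _ :: _ :: _ :: _ :: _, hk => exact hk.2.2.2.elim
  | [p, q, p'], hk =>
    obtain ⟨⟨hp, hpB⟩, ⟨hq, hqB⟩, ⟨hp', hp'B⟩, -⟩ := hk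
    obtain ⟨b, hb, x, hx, b', hb', e⟩ := hpt p hp q hq p' hp'
    have hbB : b ∉ B := by
      intro h
      have h1 := hgi p'⁻¹ (inv_mem hp') q⁻¹ (inv_mem hq) b'⁻¹ (inv_mem hb') ((p⁻¹ * (b * x))⁻¹)
        (inv_mem (mul_mem (inv_mem hp) (mul_mem (hBP i h) hx))) (by
          have e' : p'⁻¹ * q⁻¹ = (p⁻¹ * (p * q * p'))⁻¹ := by group
          rw [e', e]; group)
      rcases h1 with h1 | h1
      · exact hp'B (by simpa using inv_mem h1)
      · exact hqB (by simpa using inv_mem h1)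
    have hb'B : b' ∉ B := by
      intro h
      have h1 := hgi p hp q hq b hb (x * b' * p'⁻¹) (mul_mem (mul_mem hx (hBP i h)) (inv_mem hp')) (by
          have e' : p * q = (p * q * p') * p'⁻¹ := by group
          rw [e', e]; group)
      rcases h1 with h1 | h1
      · exact hpB h1
      · exact hqB h1
    have hxB : x ∉ B := by
      intro h
      have h1 := hgi p hp q hq (b * x * b') (mul_mem (mul_mem hb (hBP j h)) hb') p'⁻¹ (inv_mem hp') (by
          rw [← e]; group)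
      rcases h1 with h1 | h1
      · exact hpB h1
      · exact hqB h1
    have hg : GalE B P (alt j i 3) [b, x, b'] := ⟨⟨hb, hbB⟩, ⟨hx, hxB⟩, ⟨hb', hb'B⟩, trivial⟩
    refine ⟨chm B g [b, x, b'], ⟨isGal_chm hBP hg, ?_⟩, ?_⟩
    · rw [chm_last, chm_last]
      have e' : [b, x, b'].prod = [p, q, p'].prod := by
        simp only [List.prod_cons, List.prod_nil, mul_one]
        rw [← mul_assoc, ← e, mul_assoc]
      rw [e']
    · rintro l'' ⟨h2, h3⟩
      obtain ⟨k'', hk'', rfl⟩ := exists_chm hBP h2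
      rw [chm_last, chm_last, QuotientGroup.eq] at h3
      match k'', hk'' with
      | [], hk => exact hk.elim
      | [_], hk => exact hk.2.elim
      | [_, _], hk => exact hk.2.2.elim
      | _ :: _ :: _ :: _ :: _, hk => exact hk.2.2.2.elim
      | [b2, x2, b2'], hk'' =>
        obtain ⟨⟨hb2, hb2B⟩, ⟨hx2, hx2B⟩, ⟨hb2', hb2'B⟩, -⟩ := hk''
        have h4 : (b2 * x2 * b2')⁻¹ * (b * x * b') ∈ B := by
          have e' : (g * [b2, x2, b2'].prod)⁻¹ * (g * [p, q, p'].prod) = (b2 * x2 * b2')⁻¹ * (b * x * b') := by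
            rw [← e]; simp only [List.prod_cons, List.prod_nil, mul_one]; group
          rwa [e'] at h3
        set y := (b2 * x2 * b2')⁻¹ * (b * x * b') with hy
        have hβ : b2⁻¹ * b ∈ P j := mul_mem (inv_mem hb2) hb
        have h5 : b2⁻¹ * b ∈ B := by
          have h6 := hgi x⁻¹ (inv_mem hx) (b2⁻¹ * b)⁻¹ (inv_mem hβ) (b2' * y * b'⁻¹)⁻¹
            (inv_mem (mul_mem (mul_mem hb2' (hBP j h4)) (inv_mem hb'))) x2⁻¹ (inv_mem hx2) (by
              rw [hy]; group)
          rcases h6 with h6 | h6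
          · exact absurd (by simpa using inv_mem h6) hxB
          · simpa using inv_mem h6
        have h6 : (b2 * x2)⁻¹ * (b * x) ∈ B := by
          apply hinf
          · have e' : (b2 * x2)⁻¹ * (b * x) = x2⁻¹ * (b2⁻¹ * b) * x := by group
            rw [e']
            exact mul_mem (mul_mem (inv_mem hx2) (hBP i h5)) hx
          · have e' : (b2 * x2)⁻¹ * (b * x) = b2' * y * b'⁻¹ := by rw [hy]; group
            rw [e']
            exact mul_mem (mul_mem hb2' (hBP j h4)) (inv_mem hb')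
        have h7 : ((g * b2 : G) : G ⧸ B) = ((g * b : G) : G ⧸ B) := by
          rw [QuotientGroup.eq]
          have e' : (g * b2)⁻¹ * (g * b) = b2⁻¹ * b := by group
          rw [e']; exact h5
        have h8 : ((g * b2 * x2 : G) : G ⧸ B) = ((g * b * x : G) : G ⧸ B) := by
          rw [QuotientGroup.eq]
          have e' : (g * b2 * x2)⁻¹ * (g * b * x) = (b2 * x2)⁻¹ * (b * x) := by group
          rw [e']; exact h6
        have h9 : ((g * b2 * x2 * b2' : G) : G ⧸ B) = ((g * b * x * b' : G) : G ⧸ B) := by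
          rw [QuotientGroup.eq]
          have e' : (g * b2 * x2 * b2')⁻¹ * (g * b * x * b') = y := by rw [hy]; group
          rw [e']; exact h4
        simp only [chm, h7, h8, h9]

end triangle

section option

variable {J : Type*} {B : Subgroup G}

/-- the system of the minimal parabolics -/
def PP (P0 : Subgroup G) (P : J → Subgroup G) : Option J → Subgroup G
  | none => P0
  | some j => P j

@[simp] theorem PP_none (P0 : Subgroup G) (P : J → Subgroup G) : PP P0 P none = P0 := rfl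

@[simp] theorem PP_some (P0 : Subgroup G) (P : J → Subgroup G) (j : J) : PP P0 P (some j) = P j := rfl

theorem alt_map_some (i j : J) (m : ℕ) : alt (some i) (some j) m = (alt i j m).map some := by
  induction m generalizing i j with
  | zero => rfl
  | succ m ih => rw [alt_cons, alt_cons, ih, List.map_cons]

theorem isGal_map_some {C : Type*} {A : Option J → C → C → Prop} (f : List J) (c : C) (l : List C) :
    IsGal A (f.map some) c l ↔ IsGal (fun j => A (some j)) f c l := by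
  induction f generalizing c l with
  | nil => simp
  | cons i f ih =>
    cases l with
    | nil => exact Iff.rfl
    | cons d l =>
      rw [List.map_cons, isGal_cons_cons, isGal_cons_cons, ih]

theorem adj_some (P0 : Subgroup G) (P : J → Subgroup G) (j : J) (c d : G ⧸ B) :
    adj B (PP P0 P) (some j) c d ↔ adj B P j c d := Iff.rfl

theorem gpp_some {P0 : Subgroup G} {P : J → Subgroup G} {i j : J} {m : ℕ} (h : GPp B P i j m) :
    GPp B (PP P0 P) (some i) (some j) m := by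
  intro c l hl
  rw [alt_map_some, isGal_map_some] at hl
  obtain ⟨l', ⟨h1, h2⟩, h3⟩ := h c l hl
  refine ⟨l', ⟨?_, h2⟩, ?_⟩
  · rw [alt_map_some, isGal_map_some]; exact h1
  · rintro y ⟨hy1, hy2⟩
    rw [alt_map_some, isGal_map_some] at hy1
    exact h3 y ⟨hy1, hy2⟩

end option

namespace Cfg

variable {Q A S B : Subgroup G} {z a : G} (c : Cfg Q A z a S B)

include c

/-- the digon -/
theorem gpp_two_none {J : Type*} {P : J → Subgroup G} (hBP : ∀ j, B ≤ P j) (hPz : ∀ j, ∀ x ∈ P j, x * z = z * x)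
    {j : J} (hPa : ∀ x ∈ P j, x * a * x⁻¹ = a ∨ x * a * x⁻¹ = a * z) :
    GPp B (PP (P0 A B) P) none (some j) 2 ∧ GPp B (PP (P0 A B) P) (some j) none 2 := by
  have hBP' : ∀ o, B ≤ PP (P0 A B) P o := by
    rintro (_ | j)
    · exact B_le
    · exact hBP j
  have hinf : ∀ x, x ∈ P0 A B → x ∈ P j → x ∈ B := fun x h1 h2 => c.mem_B_of h1 (hPz j x h2)
  constructor
  · refine gpp_two hBP' (fun x h1 h2 => hinf x h1 h2) ?_
    intro p hp q hq
    obtain ⟨x', hx', y', hy', e⟩ := c.digon (hBP j) (hPz j) hPa (inv_mem hp) (inv_mem hq)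
    refine ⟨y'⁻¹, inv_mem hy', x'⁻¹, inv_mem hx', ?_⟩
    have e' : p * q = (q⁻¹ * p⁻¹)⁻¹ := by group
    rw [e', e]; group
  · refine gpp_two hBP' (fun x h1 h2 => hinf x h2 h1) ?_
    intro q hq p hp
    exact c.digon (hBP j) (hPz j) hPa hp hq

theorem B_ne_top : B ≠ ⊤ := by
  intro h
  obtain ⟨t, -, ht⟩ := c.exists_t
  have h1 := c.B_comm t (by rw [h]; trivial)
  apply c.az_ne
  rw [← ht, h1]; group

end Cfg

namespace Mov

open Cfg

variable {Q A S B : Subgroup G} {z a : G}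

/-- the triangle -/
theorem gpp_three_none [Finite G] {J : Type*} {P : J → Subgroup G} (hBP : ∀ j, B ≤ P j) {j : J}
    (m : Mov Q A z a S B (P j)) :
    GPp B (PP (P0 A B) P) none (some j) 3 ∧ GPp B (PP (P0 A B) P) (some j) none 3 := by
  have hBP' : ∀ o, B ≤ PP (P0 A B) P o := by
    rintro (_ | j)
    · exact B_le
    · exact hBP j
  have hinf : ∀ x, x ∈ P0 A B → x ∈ P j → x ∈ B := fun x h1 h2 => m.toCfg.mem_B_of h1 (m.Pz x h2)
  constructor
  · refine gpp_three hBP' ?_ ?_ (fun x h1 h2 => hinf x h1 h2)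
    · intro p hp q hq p' hp'
      exact m.point (mul_mem (mul_mem (m.P0_le hp) (m.P_le hq)) (m.P0_le hp'))
    · intro x hx b hb b' hb' x' hx' e
      exact m.girth hx hb hb' hx' e
  · refine gpp_three hBP' ?_ ?_ (fun x h1 h2 => hinf x h2 h1)
    · intro p hp q hq p' hp'
      exact m.line (mul_mem (mul_mem (m.P_le hp) (m.P0_le hq)) (m.P_le hp'))
    · intro x hx b hb b' hb' x' hx' e
      have h1 := m.girth (inv_mem hb) (inv_mem hx) (inv_mem hx') (inv_mem hb') (by
        rw [← mul_inv_rev, e, mul_inv_rev])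
      rcases h1 with h1 | h1
      · right; simpa using inv_mem h1
      · left; simpa using inv_mem h1

end Mov

open Cfg

/-- **(ID4)** the generalised polygons of the enlarged system -/
theorem gp_option [Finite G] {Q A S B : Subgroup G} {z a : G} (c : Cfg Q A z a S B) {J : Type*}
    {P : J → Subgroup G} {M : J → J → ℕ} {M' : Option J → Option J → ℕ} (hBP : ∀ j, B ≤ P j)
    (hPz : ∀ j, ∀ x ∈ P j, x * z = z * x) (hgp : GP B P M) (hsome : ∀ i j, M' (some i) (some j) = M i j)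
    (hsymm : ∀ j, M' (some j) none = M' none (some j))
    (hnone : ∀ j, (M' none (some j) = 2 ∧ ∀ x ∈ P j, x * a * x⁻¹ = a ∨ x * a * x⁻¹ = a * z) ∨
      (M' none (some j) = 3 ∧ Mov Q A z a S B (P j))) :
    GP B (PP (P0 A B) P) M' := by
  have key : ∀ j, GPp B (PP (P0 A B) P) none (some j) (M' none (some j)) ∧
      GPp B (PP (P0 A B) P) (some j) none (M' none (some j)) := by
    intro j
    rcases hnone j with ⟨h1, h2⟩ | ⟨h1, h2⟩
    · rw [h1]; exact c.gpp_two_none hBP hPz h2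
    · rw [h1]; exact h2.gpp_three_none hBP
  rw [gp_iff]
  rintro (_ | i) (_ | j) hij
  · exact absurd rfl hij
  · exact (key j).1
  · rw [hsymm]; exact (key i).2
  · rw [hsome]
    exact gpp_some ((gp_iff.1 hgp) i j (fun h => hij (by rw [h])))

/-- the weights of the enlarged system -/
def qq {J : Type*} (q : J → ℕ) : Option J → ℕ
  | none => 2
  | some j => q j

/-- **THEOREM ID**: the input of THEOREM FREE. -/
theorem sys [Finite G] [IsSimpleGroup G] {Q A S B : Subgroup G} {z a : G} (c : Cfg Q A z a S B) {J : Type*}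
    {P : J → Subgroup G} {M : J → J → ℕ} {M' : CoxeterMatrix (Option J)} {W : Type*} [Group W]
    (cs : CoxeterSystem M' W) {q : J → ℕ} (hBP : ∀ j, B ≤ P j)
    (hPz : ∀ j, ∀ x ∈ P j, x * z = z * x) (hgp : GP B P M) (hsome : ∀ i j, M' (some i) (some j) = M i j)
    (hnone : ∀ j, (M' none (some j) = 2 ∧ ∀ x ∈ P j, x * a * x⁻¹ = a ∨ x * a * x⁻¹ = a * z) ∨
      (M' none (some j) = 3 ∧ Mov Q A z a S B (P j)))
    (hgen : P0 A B ⊔ ⨆ j, P j = ⊤) (hcard : ∀ j, B.relIndex (P j) = q j + 1) (htwo : ∀ j, 2 ≤ q j)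
    (hpan : ∀ j, ∀ g ∈ S, ∀ x ∈ P j, x ∉ B → x⁻¹ * g * x ∈ B → ∀ y ∈ P j, y⁻¹ * g * y ∈ B) :
    Sys cs B (PP (P0 A B) P) S (qq q) where
  le := by
    rintro (_ | j)
    · exact B_le
    · exact hBP j
  gen := by
    rw [iSup_option]; exact hgen
  gp := gp_option c hBP hPz hgp hsome (fun j => M'.symmetric _ _) hnone
  card := by
    rintro (_ | j)
    · exact c.relIndex_eq
    · exact hcard j
  two := by
    rintro (_ | j)
    · exact le_rfl
    · exact htwo j
  U_le := c.S_le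
  pan := by
    rintro (_ | j)
    · intro g hg x hx hxB hgx y hy
      exact pan_of_three B_le c.relIndex_eq g (c.S_le hg) x hx hxB hgx y hy
    · exact hpan j
  clo := by
    intro g hg x hx
    exact clo_of_mem c.S_two c.S_of g hg x hx
  core := by
    intro g _ h
    exact core_of_simple c.B_ne_top g h

/-- `hD` of `Mov` from: an element of `Q` which commutes with all `[u, x]`, `u ∈ C_Q(a)`, `x ∈ C_A(z)`, lies in `A` -/
theorem hD_of {Q A : Subgroup G} {z a : G} (p : Pair Q z A a)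
    (h : ∀ v ∈ Q, (∀ u ∈ Q, u * a = a * u → ∀ x ∈ A, x * z = z * x →
      v * (u * x * u⁻¹ * x⁻¹) = (u * x * u⁻¹ * x⁻¹) * v) → v ∈ A) :
    ∀ v ∈ Q, v * a = a * v → (∀ x ∈ A, x * z = z * x →
    x * v * x⁻¹ = v ∨ x * v * x⁻¹ = v * z ∨ x * v * x⁻¹ = v * a ∨ x * v * x⁻¹ = v * (a * z)) → v ∈ A := by
  intro v hv hva hx
  apply h v hv
  intro u hu hua x hxA hxz
  -- `b(v, [u, x]) = b([v, x⁻¹], u)`
  have hxz' : x⁻¹ * z = z * x⁻¹ := Cfg.comm_inv_of hxz
  have h1 : u * x * u⁻¹ * x⁻¹ ∈ Q := by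
    have e : u * x * u⁻¹ * x⁻¹ = u * (x * u⁻¹ * x⁻¹) := by group
    rw [e]
    exact mul_mem hu (p.lz.conj_mem x hxz _ (inv_mem hu))
  have hvx : x⁻¹ * v * x ∈ Q := by
    have := p.lz.conj_mem _ hxz' v hv
    rwa [inv_inv] at this
  -- the form
  set V := p.lz.V
  have hb : p.lz.b (p.lz.pr ⟨v, hv⟩) (p.lz.pr ⟨_, h1⟩) = 0 := by
    have hxuQ : x * u⁻¹ * x⁻¹ ∈ Q := p.lz.conj_mem x hxz _ (inv_mem hu)
    have e1 : p.lz.pr ⟨_, h1⟩ = p.lz.pr ⟨u, hu⟩ + p.lz.pr ⟨_, hxuQ⟩ := by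
      have := p.lz.pr_mul ⟨u, hu⟩ ⟨_, hxuQ⟩
      rw [← this]
      congr 1
      exact Subtype.ext (by show u * x * u⁻¹ * x⁻¹ = u * (x * u⁻¹ * x⁻¹); group)
    let g : Subgroup.centralizer ({z} : Set G) := ⟨x, Subgroup.mem_centralizer_singleton_iff.2 hxz⟩
    let gi : Subgroup.centralizer ({z} : Set G) := ⟨x⁻¹, Subgroup.mem_centralizer_singleton_iff.2 hxz'⟩
    have e2 : p.lz.pr ⟨_, hxuQ⟩ = p.lz.act g (p.lz.pr ⟨u⁻¹, inv_mem hu⟩) := by
      rw [p.lz.act_pr]; rfl
    have e3 : p.lz.pr ⟨v, hv⟩ = p.lz.act g (p.lz.pr ⟨_, hvx⟩) := by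
      rw [p.lz.act_pr]
      congr 1
      exact Subtype.ext (by show v = x * (x⁻¹ * v * x) * x⁻¹; group)
    have e4 : p.lz.pr ⟨u⁻¹, inv_mem hu⟩ = p.lz.pr ⟨u, hu⟩ := by
      have := p.lz.pr_inv ⟨u, hu⟩
      rw [p.lz.neg_eq] at this
      exact this
    have e5 : p.lz.b (p.lz.pr ⟨v, hv⟩) (p.lz.pr ⟨_, hxuQ⟩) = p.lz.b (p.lz.pr ⟨_, hvx⟩) (p.lz.pr ⟨u, hu⟩) := by
      rw [e2, e3, p.lz.b_act, e4]
    rw [e1, map_add, e5]
    -- `x⁻¹ v x = v c` with `c ∈ ⟨z, a⟩`
    have h2 := hx x⁻¹ (inv_mem hxA) hxz'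
    rw [inv_inv] at h2
    have hau : p.lz.b (p.lz.pr ⟨a, p.a_mem⟩) (p.lz.pr ⟨u, hu⟩) = 0 := (p.lz.b_pr _ _).2 hua.symm
    have hpa : p.lz.pr ⟨_, hvx⟩ = p.lz.pr ⟨v, hv⟩ ∨
        p.lz.pr ⟨_, hvx⟩ = p.lz.pr ⟨v, hv⟩ + p.lz.pr ⟨a, p.a_mem⟩ := by
      rcases h2 with h2 | h2 | h2 | h2
      · left; exact p.lz.pr_eq_pr.2 (Or.inl h2)
      · left; exact p.lz.pr_eq_pr.2 (Or.inr h2)
      · right
        rw [← p.lz.pr_mul]
        exact p.lz.pr_eq_pr.2 (Or.inl h2)
      · right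
        rw [← p.lz.pr_mul]
        refine p.lz.pr_eq_pr.2 (Or.inr ?_)
        show x⁻¹ * v * x = v * a * z
        rw [h2, mul_assoc]
    rcases hpa with h3 | h3
    · rw [h3]
      generalize p.lz.b (p.lz.pr ⟨v, hv⟩) (p.lz.pr ⟨u, hu⟩) = t
      revert t; decide
    · rw [h3, map_add, LinearMap.add_apply, hau, add_zero]
      generalize p.lz.b (p.lz.pr ⟨v, hv⟩) (p.lz.pr ⟨u, hu⟩) = t
      revert t; decide
  exact (p.lz.b_pr _ _).1 hb

end Cfsg.Agent.Omega.ThmID
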