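import Cfsg.Agent.Omega.ThmID.Lift
import Cfsg.Agent.Nodes.NormalForm
import Cfsg.Agent.ParSys.Words

/-!
# THEOREM ID, part 7: the system `XSys` of a root group datum

`xsys_of_rgd`: a group `Y` with a root group datum `(T, n, X)` of characteristic two which generates `Y`, with a finite Weyl
group, has the system `XSys (Sup X Pos) B (P {j}) M q`, `q j = |X α_j|`.
-/

set_option autoImplicit false

namespace Cfsg.Agent.Omega.ThmID

open CoxeterSystem Cfsg.Agent.ChevalleyStructure.CoxeterGeom Cfsg.Agent.Tits.Roots Cfsg.Agent.Tits.Core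
  Cfsg.Agent.Nodes.Reps Cfsg.Agent.Nodes.BNOf Cfsg.Agent.Nodes.StabComb Cfsg.Agent.Nodes.Bruhat
  Cfsg.Agent.Nodes.LeviDec Cfsg.Agent.Nodes.NormalForm Cfsg.Agent.ParSys Cfsg.Agent.ParSys.Words

section words

variable {I W : Type*} [Group W] {M : CoxeterMatrix I} (cs : CoxeterSystem M W)

theorem reverse_alternatingWord (i i' : I) (m : ℕ) : (alternatingWord i i' m).reverse = alt i' i m := by
  induction m generalizing i i' with
  | zero => rfl
  | succ m ih =>
    rw [alternatingWord, List.concat_eq_append, List.reverse_append, ih]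
    rfl

/-- the braid relation -/
theorem wordProd_alt (i j : I) : cs.wordProd (alt i j (M i j)) = cs.wordProd (alt j i (M i j)) := by
  rw [← reverse_alternatingWord j i, ← reverse_alternatingWord i j, wordProd_reverse, wordProd_reverse]
  congr 1
  have h := cs.wordProd_braidWord_eq i j
  unfold braidWord at h
  rw [M.symmetric j i] at h
  exact h.symm

end words

variable {I W Y : Type*} [Fintype I] [DecidableEq I] [Group W] [Group Y] {M : CoxeterMatrix I}
  {cs : CoxeterSystem M W} {A : I → I → ℤ} {h : IsCartan M A} {p : ℕ} {T : Subgroup Y} {n : I → Y}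
  {X : (I → ℤ) → Subgroup Y}

section rgd

variable (R : RGD cs h p T n X)

include R

theorem simple_ne_one (i : I) : cs.simple i ≠ 1 := by
  have := R
  intro h1
  have h2 := cs.length_simple i
  rw [h1, cs.length_one] at h2
  exact absurd h2 (by decide)

/-- the elements of the minimal parabolics outside of `B` -/
theorem mem_P_iff [Finite W] {i : I} {x : Y} :
    (x ∈ PJ cs h T X {i} ∧ x ∉ RGD.B cs h T X) ↔ Cell R.nsys cs h X (cs.simple i) x := by
  have hWJ : ∀ w, w ∈ WJ cs {i} ↔ w = 1 ∨ w = cs.simple i := by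
    intro w
    unfold WJ
    rw [Set.image_singleton]
    constructor
    · intro hw
      induction hw using Subgroup.closure_induction_left with
      | one => exact Or.inl rfl
      | mul_left x hx y _ ih =>
        rw [Set.mem_singleton_iff] at hx
        subst hx
        rcases ih with ih | ih
        · right; rw [ih, mul_one]
        · left; rw [ih, simple_mul_simple_self]
      | inv_mul_cancel x hx y _ ih =>
        rw [Set.mem_singleton_iff] at hx
        subst hx
        rw [inv_simple]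
        rcases ih with ih | ih
        · right; rw [ih, mul_one]
        · left; rw [ih, simple_mul_simple_self]
    · rintro (rfl | rfl)
      · exact one_mem _
      · exact Subgroup.subset_closure rfl
  constructor
  · rintro ⟨h1, h2⟩
    obtain ⟨w, hw, hc⟩ := (mem_PJ_iff_cell R).1 h1
    rcases (hWJ w).1 hw with rfl | rfl
    · exact absurd hc.mem_of_one h2
    · exact hc
  · intro hc
    refine ⟨(mem_PJ_iff_cell R).2 ⟨_, (hWJ _).2 (Or.inr rfl), hc⟩, fun h1 => ?_⟩
    exact simple_ne_one R i (Cell.unique R hc (cell_one_of_mem h1))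

theorem isReduced_tail {i : I} {f : List I} (hf : cs.IsReduced (i :: f)) :
    cs.IsReduced f ∧ cs.length (cs.simple i * cs.wordProd f) = cs.length (cs.simple i) + cs.length (cs.wordProd f) := by
  have := R
  have h1 : cs.length (cs.wordProd (i :: f)) = f.length + 1 := hf
  rw [wordProd_cons] at h1
  have h2 := cs.length_wordProd_le f
  have h3 := cs.length_mul_le (cs.simple i) (cs.wordProd f)
  rw [cs.length_simple] at h3
  have h4 : cs.length (cs.wordProd f) = f.length := by omega
  refine ⟨h4, ?_⟩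
  rw [cs.length_simple]; omega

/-- the product of a gallery of reduced type -/
theorem cell_gal [Finite W] {f : List I} {l : List Y} (hf : cs.IsReduced f)
    (hl : GalE (RGD.B cs h T X) (fun j => PJ cs h T X {j}) f l) : Cell R.nsys cs h X (cs.wordProd f) l.prod := by
  induction f generalizing l with
  | nil =>
    cases l with
    | nil => rw [wordProd_nil, List.prod_nil]; exact cell_one_of_mem (one_mem _)
    | cons x l => exact hl.elim
  | cons i f ih =>
    cases l with
    | nil => exact hl.elim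
    | cons x l =>
      obtain ⟨h1, h2⟩ := isReduced_tail R hf
      rw [wordProd_cons, List.prod_cons]
      exact Cell.mul_of_length R h2 ((mem_P_iff R).1 hl.1) (ih h1 hl.2)

/-- galleries of reduced type are determined by their ends -/
theorem same_gal [Finite W] {f : List I} {l l' : List Y} (hf : cs.IsReduced f)
    (hl : GalE (RGD.B cs h T X) (fun j => PJ cs h T X {j}) f l)
    (hl' : GalE (RGD.B cs h T X) (fun j => PJ cs h T X {j}) f l') {t s : Y} (hts : t⁻¹ * s ∈ RGD.B cs h T X)
    (he : (t * l.prod)⁻¹ * (s * l'.prod) ∈ RGD.B cs h T X) : Same (RGD.B cs h T X) t s l l' := by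
  induction f generalizing l l' t s with
  | nil =>
    cases l with
    | cons x l => exact hl.elim
    | nil =>
      cases l' with
      | cons y l' => exact hl'.elim
      | nil => exact hts
  | cons i f ih =>
    cases l with
    | nil => exact hl.elim
    | cons x l =>
      cases l' with
      | nil => exact hl'.elim
      | cons y l' =>
        obtain ⟨h1, h2⟩ := isReduced_tail R hf
        refine ⟨hts, ih h1 hl.2 hl'.2 ?_ ?_⟩
        · by_contra hc
          have hP : (t * x)⁻¹ * (s * y) ∈ PJ cs h T X {i} := by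
            have e : (t * x)⁻¹ * (s * y) = x⁻¹ * (t⁻¹ * s) * y := by group
            rw [e]
            exact mul_mem (mul_mem (inv_mem hl.1.1) (B_le_PJ hts)) hl'.1.1
          have h3 := Cell.mul_of_length R h2 ((mem_P_iff R).1 ⟨hP, hc⟩) (cell_gal R h1 hl'.2)
          have h4 := (cell_gal R h1 hl.2).mul_right he
          have e : l.prod * ((t * (x :: l).prod)⁻¹ * (s * (y :: l').prod)) = (t * x)⁻¹ * (s * y) * l'.prod := by
            rw [List.prod_cons, List.prod_cons]; group
          rw [e] at h4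
          have h5 := Cell.unique R h3 h4
          exact simple_ne_one R i (mul_eq_right.1 h5)
        · have e : (t * x * l.prod)⁻¹ * (s * y * l'.prod) = (t * (x :: l).prod)⁻¹ * (s * (y :: l').prod) := by
            rw [List.prod_cons, List.prod_cons, mul_assoc t x, mul_assoc s y]
          rw [e]; exact he

/-- `B` is transitive on the galleries of reduced type from `B` -/
theorem trans_gal [Finite W] {f : List I} {l l' : List Y} (hf : cs.IsReduced f)
    (hl : GalE (RGD.B cs h T X) (fun j => PJ cs h T X {j}) f l)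
    (hl' : GalE (RGD.B cs h T X) (fun j => PJ cs h T X {j}) f l') :
    ∃ y ∈ RGD.B cs h T X, Same (RGD.B cs h T X) y 1 l l' := by
  obtain ⟨b₁, hb₁, k, hk, b₂, hb₂, e⟩ := cell_gal R hf hl
  obtain ⟨c₁, hc₁, k', hk', c₂, hc₂, e'⟩ := cell_gal R hf hl'
  refine ⟨c₁ * b₁⁻¹, mul_mem hc₁ (inv_mem hb₁), same_gal R hf hl hl' ?_ ?_⟩
  · rw [mul_one]; exact inv_mem (mul_mem hc₁ (inv_mem hb₁))
  · have h1 : k⁻¹ * k' ∈ RGD.B cs h T X := RGD.T_le_B (hk.unique hk')
    have e2 : (c₁ * b₁⁻¹ * l.prod)⁻¹ * (1 * l'.prod) = b₂⁻¹ * (k⁻¹ * k') * c₂ := by rw [e, e']; group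
    rw [e2]
    exact mul_mem (mul_mem (inv_mem hb₂) h1) hc₂

theorem rp_word (f : List I) : Rp cs R.nsys (cs.wordProd f) (f.map n).prod := by
  induction f with
  | nil => rw [wordProd_nil, List.map_nil, List.prod_nil]; exact rp_one
  | cons i f ih =>
    rw [wordProd_cons, List.map_cons, List.prod_cons]
    exact (rp_simple cs R.nsys i).mul ih

theorem galE_word [Finite W] (f : List I) :
    GalE (RGD.B cs h T X) (fun j => PJ cs h T X {j}) f (f.map n) := by
  induction f with
  | nil => exact trivial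
  | cons i f ih => exact ⟨(mem_P_iff R).2 (cell_of_rp (rp_simple cs R.nsys i)), ih⟩

/-- **the residues of rank two are polygons** -/
theorem polygon_rgd [Finite W] (i j : I) :
    Polygon (RGD.B cs h T X) (fun j => PJ cs h T X {j}) i j (M i j) := by
  have h1 : cs.IsReduced (alt i j (M i j)) := isReduced_alt cs fun _ => le_rfl
  have h2 : cs.IsReduced (alt j i (M i j)) := isReduced_alt cs fun _ => by rw [M.symmetric j i]
  exact
  { uniq := fun l l' hl hl' he => same_gal R h1 hl hl' (by simp [one_mem]) (by simpa using he)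
    uniq' := fun l l' hl hl' he => same_gal R h2 hl hl' (by simp [one_mem]) (by simpa using he)
    swap := ⟨_, _, galE_word R _, galE_word R _, RGD.T_le_B (by
      have h3 := rp_word R (alt i j (M i j))
      have h4 := rp_word R (alt j i (M i j))
      rw [← wordProd_alt] at h4
      exact h3.unique h4)⟩
    trans := fun l l' hl hl' => trans_gal R h1 hl hl'
    trans' := fun l l' hl hl' => trans_gal R h2 hl hl' }

omit R in
/-- `V_i`, the unipotent radical of `P_i` -/
theorem conj_V_mem {i : I} {g v : Y} (hv : v ∈ RGD.Sup X (RGD.PosNe cs h i))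
    (hg : g ∈ Subgroup.normalizer (RGD.Sup X (RGD.PosNe cs h i) : Set Y)) :
    g * v * g⁻¹ ∈ RGD.Sup X (RGD.PosNe cs h i) := (Subgroup.mem_normalizer_iff.1 hg v).1 hv

theorem n_mem_normalizer_V (i : I) : n i ∈ Subgroup.normalizer (RGD.Sup X (RGD.PosNe cs h i) : Set Y) := by
  rw [mem_normalizer_iff_cj]; exact R.cj_n_V i

theorem T_le_normalizer_V (i : I) : T ≤ Subgroup.normalizer (RGD.Sup X (RGD.PosNe cs h i) : Set Y) :=
  R.T_le_normalizer fun _ hx => hx.1

omit R in
theorem V_le_B (i : I) : RGD.Sup X (RGD.PosNe cs h i) ≤ RGD.B cs h T X :=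
  (RGD.Sup_mono (S := RGD.PosNe cs h i) (S' := RGD.Pos cs h) fun _ hz => ⟨hz.1, hz.2.1⟩).trans RGD.U_le_B

/-- `P_i = B ∪ X_i n_i B` -/
theorem exists_form [Finite W] {i : I} {x : Y} (hx : x ∈ PJ cs h T X {i}) (hxB : x ∉ RGD.B cs h T X) :
    ∃ u ∈ X (sr i), ∃ b ∈ RGD.B cs h T X, x = u * n i * b := by
  obtain ⟨b₁, hb₁, k, hk, b₂, hb₂, rfl⟩ := (mem_P_iff R).1 ⟨hx, hxB⟩
  obtain ⟨v, hv, u, hu, t, ht, rfl⟩ := R.mem_B' i hb₁
  have h1 : (n i)⁻¹ * k ∈ T := (rp_simple cs R.nsys i).unique hk
  have hn := n_mem_normalizer_V R i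
  -- `v u t k b₂ = u n (n⁻¹ (u⁻¹ v u) n) (n⁻¹ t n) (n⁻¹ k) b₂`
  have h2 : u⁻¹ * v * u ∈ RGD.Sup X (RGD.PosNe cs h i) := by
    have := conj_V_mem hv (inv_mem (R.X_le_normalizer_V i hu))
    rwa [inv_inv] at this
  have h3 : (n i)⁻¹ * (u⁻¹ * v * u) * n i ∈ RGD.Sup X (RGD.PosNe cs h i) := by
    have := conj_V_mem h2 (inv_mem hn)
    rwa [inv_inv] at this
  have h4 : (n i)⁻¹ * t * n i ∈ T := by
    have := (Subgroup.mem_normalizer_iff.1 (inv_mem (R.nsys.norm i)) t).1 ht
    rwa [inv_inv] at this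
  refine ⟨u, hu, ((n i)⁻¹ * (u⁻¹ * v * u) * n i) * ((n i)⁻¹ * t * n i) * ((n i)⁻¹ * k) * b₂, ?_, by group⟩
  exact mul_mem (mul_mem (mul_mem (V_le_B i h3) (RGD.T_le_B h4)) (RGD.T_le_B h1)) hb₂

/-- an element of `X_i` which fixes the chamber `n_i B` -/
theorem eq_one_of_conj [Finite W] {i : I} {u : Y} (hu : u ∈ X (sr i)) (hB : (n i)⁻¹ * u * n i ∈ RGD.B cs h T X) :
    u = 1 := by
  have hk : Rp cs R.nsys (cs.simple i) (n i)⁻¹ := by
    have := (rp_simple cs R.nsys i).inv
    rwa [inv_simple] at this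
  exact eq_one_of_conj_mem_B R hu hk (by rwa [inv_inv])

/-- **the number of chambers in a panel** -/
theorem relIndex_P [Finite W] [Finite Y] (i : I) :
    (RGD.B cs h T X).relIndex (PJ cs h T X {i}) = Nat.card (X (sr i)) + 1 := by
  classical
  have hnP : n i ∈ PJ cs h T X {i} := ((mem_P_iff R).2 (cell_of_rp (rp_simple cs R.nsys i))).1
  have hXP : X (sr i) ≤ PJ cs h T X {i} := (RGD.X_le_B (isRoot_sr cs h i) (sr_nonneg i)).trans B_le_PJ
  let f : Option (X (sr i)) → PJ cs h T X {i} ⧸ (RGD.B cs h T X).subgroupOf (PJ cs h T X {i}) := fun o =>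
    match o with
    | none => QuotientGroup.mk 1
    | some u => QuotientGroup.mk ⟨(u : Y) * n i, mul_mem (hXP u.2) hnP⟩
  have hnB : n i ∉ RGD.B cs h T X := ((mem_P_iff R).2 (cell_of_rp (rp_simple cs R.nsys i))).2
  have hX1 : X (sr i) ≤ RGD.B cs h T X := RGD.X_le_B (isRoot_sr cs h i) (sr_nonneg i)
  have key : ∀ u ∈ X (sr i), u * n i ∉ RGD.B cs h T X := by
    intro u hu hc
    apply hnB
    have := mul_mem (inv_mem (hX1 hu)) hc
    rwa [inv_mul_cancel_left] at this
  have hf : Function.Bijective f := by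
    constructor
    · rintro (_ | u) (_ | v) huv
      · rfl
      · exfalso
        have h1 : (QuotientGroup.mk (1 : PJ cs h T X {i}) :
            PJ cs h T X {i} ⧸ (RGD.B cs h T X).subgroupOf (PJ cs h T X {i})) =
            QuotientGroup.mk ⟨(v : Y) * n i, mul_mem (hXP v.2) hnP⟩ := huv
        rw [QuotientGroup.eq] at h1
        have h2 : (1 : Y)⁻¹ * ((v : Y) * n i) ∈ RGD.B cs h T X := h1
        rw [inv_one, one_mul] at h2
        exact key v v.2 h2
      · exfalso
        have h1 : (QuotientGroup.mk (⟨(u : Y) * n i, mul_mem (hXP u.2) hnP⟩ : PJ cs h T X {i}) :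
            PJ cs h T X {i} ⧸ (RGD.B cs h T X).subgroupOf (PJ cs h T X {i})) = QuotientGroup.mk 1 := huv
        rw [eq_comm, QuotientGroup.eq] at h1
        have h2 : (1 : Y)⁻¹ * ((u : Y) * n i) ∈ RGD.B cs h T X := h1
        rw [inv_one, one_mul] at h2
        exact key u u.2 h2
      · have h1 : (QuotientGroup.mk (⟨(u : Y) * n i, mul_mem (hXP u.2) hnP⟩ : PJ cs h T X {i}) :
            PJ cs h T X {i} ⧸ (RGD.B cs h T X).subgroupOf (PJ cs h T X {i})) =
            QuotientGroup.mk ⟨(v : Y) * n i, mul_mem (hXP v.2) hnP⟩ := huv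
        rw [QuotientGroup.eq] at h1
        have h2 : ((u : Y) * n i)⁻¹ * ((v : Y) * n i) ∈ RGD.B cs h T X := h1
        have e : ((u : Y) * n i)⁻¹ * ((v : Y) * n i) = (n i)⁻¹ * ((u : Y)⁻¹ * v) * n i := by group
        rw [e] at h2
        have h3 := eq_one_of_conj R (mul_mem (inv_mem u.2) v.2) h2
        have h4 : (u : Y) = v := inv_mul_eq_one.1 h3
        exact congrArg some (Subtype.ext h4)
    · intro y
      induction y using QuotientGroup.induction_on with
      | _ x =>
      by_cases hx : (x : Y) ∈ RGD.B cs h T X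
      · refine ⟨none, ?_⟩
        show (QuotientGroup.mk (1 : PJ cs h T X {i}) :
            PJ cs h T X {i} ⧸ (RGD.B cs h T X).subgroupOf (PJ cs h T X {i})) = QuotientGroup.mk x
        rw [QuotientGroup.eq, inv_one, one_mul]
        exact hx
      · obtain ⟨u, hu, b, hb, e⟩ := exists_form R x.2 hx
        refine ⟨some ⟨u, hu⟩, ?_⟩
        show (QuotientGroup.mk (⟨u * n i, mul_mem (hXP hu) hnP⟩ : PJ cs h T X {i}) :
            PJ cs h T X {i} ⧸ (RGD.B cs h T X).subgroupOf (PJ cs h T X {i})) = QuotientGroup.mk x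
        rw [QuotientGroup.eq]
        show (u * n i)⁻¹ * (x : Y) ∈ RGD.B cs h T X
        rw [e, inv_mul_cancel_left]; exact hb
  have h1 := Nat.card_eq_of_bijective f hf
  rw [Finite.card_option] at h1
  exact h1.symm

/-- **the panel condition** -/
theorem pan_rgd [Finite W] (i : I) : ∀ g ∈ RGD.Sup X (RGD.Pos cs h), ∀ x ∈ PJ cs h T X {i}, x ∉ RGD.B cs h T X →
    x⁻¹ * g * x ∈ RGD.B cs h T X → ∀ y ∈ PJ cs h T X {i}, y⁻¹ * g * y ∈ RGD.B cs h T X := by
  intro g hg x hx hxB hgx y hy
  have hn := n_mem_normalizer_V R i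
  have hnV : ∀ v ∈ RGD.Sup X (RGD.PosNe cs h i), (n i)⁻¹ * v * n i ∈ RGD.Sup X (RGD.PosNe cs h i) := by
    intro v hv
    have := conj_V_mem hv (inv_mem hn)
    rwa [inv_inv] at this
  have huV : ∀ u ∈ X (sr i), ∀ v ∈ RGD.Sup X (RGD.PosNe cs h i), u⁻¹ * v * u ∈ RGD.Sup X (RGD.PosNe cs h i) := by
    intro u hu v hv
    have := conj_V_mem hv (inv_mem (R.X_le_normalizer_V i hu))
    rwa [inv_inv] at this
  -- `g ∈ V_i`
  have hgV : g ∈ RGD.Sup X (RGD.PosNe cs h i) := by
    have h1 : g ∈ ((RGD.Sup X (RGD.PosNe cs h i) ⊔ X (sr i) : Subgroup Y) : Set Y) := by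
      rw [sup_comm, ← R.Upos_eq i]; exact hg
    rw [Subgroup.coe_mul_of_right_le_normalizer_left _ _ (R.X_le_normalizer_V i), Set.mem_mul] at h1
    obtain ⟨v, hv, u, hu, rfl⟩ := h1
    obtain ⟨u₁, hu₁, b, hb, rfl⟩ := exists_form R hx hxB
    have e : (u₁ * n i * b)⁻¹ * (v * u) * (u₁ * n i * b) =
        b⁻¹ * (((n i)⁻¹ * (u₁⁻¹ * v * u₁) * n i) * ((n i)⁻¹ * (u₁⁻¹ * u * u₁) * n i)) * b := by group
    rw [e] at hgx
    have h2 : ((n i)⁻¹ * (u₁⁻¹ * v * u₁) * n i) * ((n i)⁻¹ * (u₁⁻¹ * u * u₁) * n i) ∈ RGD.B cs h T X := by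
      have := mul_mem (mul_mem hb hgx) (inv_mem hb)
      have e2 : ∀ z : Y, b * (b⁻¹ * z * b) * b⁻¹ = z := fun z => by group
      rwa [e2] at this
    have h3 := V_le_B (T := T) i (hnV _ (huV u₁ hu₁ v hv))
    have h4 : (n i)⁻¹ * (u₁⁻¹ * u * u₁) * n i ∈ RGD.B cs h T X := by
      have := mul_mem (inv_mem h3) h2
      rwa [inv_mul_cancel_left] at this
    have h5 := eq_one_of_conj R (mul_mem (mul_mem (inv_mem hu₁) hu) hu₁) h4
    have h6 : u = 1 := by
      calc u = u₁ * (u₁⁻¹ * u * u₁) * u₁⁻¹ := by group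
        _ = 1 := by rw [h5]; group
    rw [h6, mul_one]; exact hv
  by_cases hyB : y ∈ RGD.B cs h T X
  · exact mul_mem (mul_mem (inv_mem hyB) (RGD.U_le_B hg)) hyB
  · obtain ⟨u, hu, b, hb, rfl⟩ := exists_form R hy hyB
    have e : (u * n i * b)⁻¹ * g * (u * n i * b) = b⁻¹ * ((n i)⁻¹ * (u⁻¹ * g * u) * n i) * b := by group
    rw [e]
    exact mul_mem (mul_mem (inv_mem hb) (V_le_B i (hnV _ (huV u hu g hgV)))) hb

/-- the parabolics generate -/
theorem gen_rgd [Finite W] (hG : GG cs h T X = ⊤) : RGD.B cs h T X ⊔ ⨆ j, PJ cs h T X {j} = ⊤ := by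
  set K : Subgroup Y := RGD.B cs h T X ⊔ ⨆ j, PJ cs h T X {j} with hK
  have hB : RGD.B cs h T X ≤ K := le_sup_left
  have hn : ∀ i, n i ∈ K := fun i =>
    (le_sup_right : _ ≤ K) ((le_iSup (fun j => PJ cs h T X {j}) i) ((mem_P_iff R).2 (cell_of_rp (rp_simple cs R.nsys i))).1)
  rw [eq_top_iff, ← hG]
  intro g hg
  obtain ⟨w, b₁, hb₁, k, hk, b₂, hb₂, rfl⟩ := (mem_GG R).1 hg
  obtain ⟨ω, rfl⟩ := cs.wordProd_surjective w
  have h1 : (ω.map n).prod ∈ K := by
    apply Subgroup.list_prod_mem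
    intro x hx
    obtain ⟨i, -, rfl⟩ := List.mem_map.1 hx
    exact hn i
  have h2 : (ω.map n).prod⁻¹ * k ∈ K := hB (RGD.T_le_B ((rp_word R ω).unique hk))
  have h3 := mul_mem h1 h2
  rw [mul_inv_cancel_left] at h3
  exact mul_mem (mul_mem (hB hb₁) h3) (hB hb₂)

end rgd

/-- **The system of a root group datum of characteristic two.** -/
theorem xsys_of_rgd [Finite W] [Finite Y] (R : RGD cs h 2 T n X) (hG : GG cs h T X = ⊤)
    {q : I → ℕ} (hq : ∀ j, Nat.card (X (sr j)) = q j) :
    XSys (RGD.Sup X (RGD.Pos cs h)) (RGD.B cs h T X) (fun j => PJ cs h T X {j}) (fun i j => M i j) q where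
  two := R.isPGroup_Upos
  max U hU hle := (eq_U_of_isPGroup R hU hle (by rw [hG]; exact le_top)).le
  mem_B x := by
    have h1 := normalizer_U R
    rw [hG, inf_top_eq] at h1
    rw [← h1]
    constructor
    · intro hx t ht
      exact (Subgroup.mem_normalizer_iff.1 hx t).1 ht
    · exact fun hx => mem_normalizer_of hx
  BP _ := B_le_PJ
  gen := gen_rgd R hG
  pol i j _ := polygon_rgd R i j
  card j := by rw [relIndex_P R, hq]
  pan j := pan_rgd R j

end Cfsg.Agent.Omega.ThmID
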