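import Cfsg.Agent.Omega.ThmID.Sub

/-!
# THEOREM ID, part 5: the configuration from a normal subgroup `L` of `C_G(z)` with `C_G(z) / L` a 2-group

`Lev Q A z a S L`: `Pair Q z A a`, `L` normal in `C_G(z)`, `C_G(z) / L` a 2-group, `Q C_A(z) ≤ L`, `S` a Sylow 2-subgroup
of `L`, `C_{Q/⟨z⟩}(S) ≤ ⟨a⟩`.  Then, with `Bo S L = N_L(S)`,

* `Lev.cfg : Cfg Q A z a S (Bo S L)`, `Lev.mov`: the input of `sys`, `sys_sub`;
* `Lev.conj_G0`, `Lev.conj_G0_V`: `C_G(z)` and `N_G(⟨z, a⟩)` normalise `G0 = ⟨A, L⟩`.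

`Lev.of_sylow`: `L = C_G(z)`, `S` a Sylow 2-subgroup of `G`.
-/

set_option autoImplicit false

namespace Cfsg.Agent.Omega.ThmID

open Cfsg.Agent.Co2Type.Quad Cfsg.Agent.LargeExtra.Base

variable {G : Type*} [Group G]

/-- a 2-group acting on a nontrivial elementary abelian 2-group has a nontrivial fixed point -/
theorem exists_fixed {Q : Subgroup G} {z a : G} [Finite G] (h : Large Q z) (ha : a ∈ Q) (ha1 : a ≠ 1) (haz : a ≠ z)
    {S : Subgroup G} (hS : IsPGroup 2 S) (hz : ∀ s ∈ S, s * z = z * s) :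
    ∃ x ∈ Q, x ≠ 1 ∧ x ≠ z ∧ ∀ s ∈ S, s * x * s⁻¹ = x ∨ s * x * s⁻¹ = x * z := by
  classical
  let ρ : S →* (h.V ≃ₗ[ZMod 2] h.V) :=
    h.act.comp (Subgroup.inclusion fun x hx => Subgroup.mem_centralizer_singleton_iff.2 (hz x hx))
  let _ : MulAction S h.V :=
    { smul := fun s v => ρ s v
      one_smul := fun v => by show ρ 1 v = v; rw [map_one]; rfl
      mul_smul := fun s t v => by show ρ (s * t) v = ρ s (ρ t v); rw [map_mul]; rfl }
  have hV : Finite h.V := inferInstance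
  have h1 := hS.card_modEq_card_fixedPoints h.V
  have hne : h.pr ⟨a, ha⟩ ≠ 0 := by
    intro h2
    rcases h.pr_eq_zero.1 h2 with h3 | h3
    · exact ha1 h3
    · exact haz h3
  have h2 : 2 ∣ Nat.card h.V := by
    have h3 : addOrderOf (h.pr ⟨a, ha⟩) = 2 := by
      apply addOrderOf_eq_prime
      · rw [two_nsmul]; exact h.add_self _
      · exact hne
    rw [← h3]; exact addOrderOf_dvd_natCard _
  have h3 : 2 ∣ Nat.card (MulAction.fixedPoints S h.V) := (Nat.modEq_zero_iff_dvd.1 (h1.symm.trans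
    (Nat.modEq_zero_iff_dvd.2 h2)))
  have h0 : (0 : h.V) ∈ MulAction.fixedPoints S h.V := fun s => by
    show ρ s 0 = 0
    rw [map_zero]
  have h4 : 1 < Nat.card (MulAction.fixedPoints S h.V) := by
    have : 0 < Nat.card (MulAction.fixedPoints S h.V) := Nat.card_pos_iff.2 ⟨⟨⟨0, h0⟩⟩, inferInstance⟩
    exact Nat.lt_of_lt_of_le (by norm_num) (Nat.le_of_dvd this h3)
  obtain ⟨⟨v, hv⟩, ⟨w, hw⟩, hvw⟩ := (Finite.one_lt_card_iff_nontrivial.1 h4).exists_pair_ne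
  have key : ∀ v : h.V, v ∈ MulAction.fixedPoints S h.V → v ≠ 0 →
      ∃ x ∈ Q, x ≠ 1 ∧ x ≠ z ∧ ∀ s ∈ S, s * x * s⁻¹ = x ∨ s * x * s⁻¹ = x * z := by
    intro v hv hv0
    obtain ⟨x, rfl⟩ := h.pr_surjective v
    refine ⟨x, x.2, ?_, ?_, ?_⟩
    · intro h5; exact hv0 (h.pr_eq_zero.2 (Or.inl h5))
    · intro h5; exact hv0 (h.pr_eq_zero.2 (Or.inr h5))
    · intro s hs
      have h5 : h.act _ (h.pr x) = h.pr x := hv ⟨s, hs⟩
      rw [h.act_pr] at h5
      exact h.pr_eq_pr.1 h5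
  by_cases hv0 : v = 0
  · refine key w hw ?_
    rintro rfl
    exact hvw (Subtype.ext hv0)
  · exact key v hv hv0

/-- `L` is normal in `C_G(z)` and contains `Q C_A(z)`, `C_G(z) / L` is a 2-group, `S` is a Sylow 2-subgroup of `L`
and `C_{Q/⟨z⟩}(S) ≤ ⟨a⟩`. -/
structure Lev (Q A : Subgroup G) (z a : G) (S L : Subgroup G) : Prop where
  p : Pair Q z A a
  L_comm : ∀ l ∈ L, l * z = z * l
  L_norm : ∀ g, g * z = z * g → ∀ l ∈ L, g * l * g⁻¹ ∈ L
  L_pow : ∀ g, g * z = z * g → ∃ n : ℕ, g ^ 2 ^ n ∈ L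
  Q_le : Q ≤ L
  X_le : ∀ x ∈ A, x * z = z * x → x ∈ L
  S_le : S ≤ L
  S_two : IsPGroup 2 S
  S_max : ∀ T : Subgroup G, T ≤ L → IsPGroup 2 T → S ≤ T → T ≤ S
  fix : ∀ x ∈ Q, (∀ s ∈ S, s * x * s⁻¹ = x ∨ s * x * s⁻¹ = x * z) → x = 1 ∨ x = z ∨ x = a ∨ x = a * z

/-- the Borel subgroup -/
def Bo (S L : Subgroup G) : Subgroup G := Subgroup.normalizer (S : Set G) ⊓ L

theorem Bo_le {S L : Subgroup G} : Bo S L ≤ L := fun _ h => h.2

theorem mem_normalizer_of [Finite G] {S : Subgroup G} {g : G} (hg : ∀ s ∈ S, g * s * g⁻¹ ∈ S) :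
    g ∈ Subgroup.normalizer (S : Set G) := by
  rw [Subgroup.mem_normalizer_iff]
  have h1 : S.map (MulAut.conj g).toMonoidHom = S := by
    apply Subgroup.eq_of_le_of_card_ge
    · rintro _ ⟨s, hs, rfl⟩
      exact hg s hs
    · rw [Subgroup.card_map_of_injective (MulAut.conj g).injective]
  intro y
  constructor
  · exact hg y
  · intro hy
    rw [← h1] at hy
    obtain ⟨s, hs, e⟩ := hy
    have e' : s = y := by
      have e2 : g * s * g⁻¹ = g * y * g⁻¹ := e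
      have e3 := mul_right_cancel e2
      exact mul_left_cancel e3
    rw [← e']; exact hs

theorem mem_Bo [Finite G] {S L : Subgroup G} {g : G} : g ∈ Bo S L ↔ g ∈ L ∧ ∀ s ∈ S, g * s * g⁻¹ ∈ S :=
  ⟨fun h => ⟨h.2, fun s hs => (Subgroup.mem_normalizer_iff.1 h.1 s).1 hs⟩, fun h => ⟨mem_normalizer_of h.2, h.1⟩⟩

theorem normalizes_of {H U : Subgroup G} (h : ∀ s ∈ H, ∀ x ∈ U, s * x * s⁻¹ ∈ U) :
    H ≤ Subgroup.normalizer (U : Set G) := by
  intro s hs
  rw [Subgroup.mem_normalizer_iff]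
  intro y
  constructor
  · exact h s hs y
  · intro hy
    have h2 := h _ (inv_mem hs) _ hy
    have e : s⁻¹ * (s * y * s⁻¹) * s⁻¹⁻¹ = y := by group
    rwa [e] at h2

namespace Lev

variable {Q A S L : Subgroup G} {z a : G} (e : Lev Q A z a S L)

include e

theorem S_comm {s : G} (hs : s ∈ S) : s * z = z * s := e.L_comm s (e.S_le hs)

theorem conj_Q {g : G} (h : g * z = z * g) {x : G} (hx : x ∈ Q) : g * x * g⁻¹ ∈ Q := e.p.lz.conj_mem g h x hx

theorem conj_A {g : G} (h : g * a = a * g) {x : G} (hx : x ∈ A) : g * x * g⁻¹ ∈ A := e.p.la.conj_mem g h x hx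

theorem Q_le_S : Q ≤ S := by
  have h1 := normalizes_of (H := S) (U := Q) fun s hs x hx => e.conj_Q (e.S_comm hs) hx
  have h2 := IsPGroup.to_sup_of_normal_right' e.S_two (isPGroup e.p.lz) h1
  exact le_trans le_sup_right (e.S_max _ (sup_le e.S_le e.Q_le) h2 le_sup_left)

/-- the vector `a` is fixed by `S` -/
theorem S_a [Finite G] {s : G} (hs : s ∈ S) : s * a * s⁻¹ = a ∨ s * a * s⁻¹ = a * z := by
  obtain ⟨x, hx, hx1, hxz, hxS⟩ := exists_fixed e.p.lz e.p.a_mem e.p.la.z_ne e.p.ne e.S_two fun s hs => e.S_comm hs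
  have hsz := e.S_comm hs
  rcases e.fix x hx hxS with h | h | h | h
  · exact absurd h hx1
  · exact absurd h hxz
  · rw [← h]; exact hxS s hs
  · have h1 := hxS s hs
    rw [h] at h1
    have e : s * (a * z) * s⁻¹ = s * a * s⁻¹ * z := by
      calc s * (a * z) * s⁻¹ = s * a * s⁻¹ * ((s * z) * s⁻¹) := by group
        _ = s * a * s⁻¹ * z := by rw [hsz]; group
    rw [e] at h1
    rcases h1 with h1 | h1
    · left; exact mul_right_cancel h1
    · right; exact mul_right_cancel h1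

/-- an element of `Q` which interchanges `a` and `a z` -/
theorem exists_q : ∃ q ∈ Q, q * a * q⁻¹ = a * z := by
  obtain ⟨y, hy, h⟩ := exists_not_comm e.p.lz e.p.a_mem e.p.la.z_ne e.p.ne
  refine ⟨y, hy, ?_⟩
  rw [h, mul_assoc a y z, e.p.lz.comm_z y hy]
  group

/-- every element of `C(z)` which normalises `⟨z, a⟩` normalises `Q X` -/
theorem conj_QX {g : G} (hz : g * z = z * g) (ha : g * a * g⁻¹ = a ∨ g * a * g⁻¹ = a * z) {x : G}
    (hx : x ∈ (A ⊓ Subgroup.centralizer {z} ⊔ Q : Subgroup G)) :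
    g * x * g⁻¹ ∈ (A ⊓ Subgroup.centralizer {z} ⊔ Q : Subgroup G) := by
  set U : Subgroup G := A ⊓ Subgroup.centralizer {z} ⊔ Q with hU
  have key : U ≤ U.comap (MulAut.conj g).toMonoidHom := by
    refine sup_le ?_ ?_
    · intro y hy
      show g * y * g⁻¹ ∈ U
      have hyz : y * z = z * y := Subgroup.mem_centralizer_singleton_iff.1 hy.2
      have step : ∀ k : G, k * z = z * k → k * a * k⁻¹ = a → k * y * k⁻¹ ∈ U := by
        intro k hkz hka
        have h1 : k * y * k⁻¹ ∈ A := e.conj_A (by rw [← mul_inv_eq_iff_eq_mul]; exact hka) hy.1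
        refine (le_sup_left : _ ≤ U) ⟨h1, ?_⟩
        apply Subgroup.mem_centralizer_singleton_iff.2
        have h2 := Cfg.comm_inv_of hkz
        calc k * y * k⁻¹ * z = k * y * (k⁻¹ * z) := by group
          _ = k * (y * z) * k⁻¹ := by rw [h2]; group
          _ = (k * z) * y * k⁻¹ := by rw [hyz]; group
          _ = z * (k * y * k⁻¹) := by rw [hkz]; group
      rcases ha with ha | ha
      · exact step g hz ha
      · obtain ⟨q, hq, hqa⟩ := e.exists_q
        have hqz := e.p.lz.comm_z q hq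
        have h3 := step (q⁻¹ * g) (by rw [mul_assoc, hz, ← mul_assoc, Cfg.comm_inv_of hqz, mul_assoc]) (by
          calc (q⁻¹ * g) * a * (q⁻¹ * g)⁻¹ = q⁻¹ * (g * a * g⁻¹) * q := by group
            _ = q⁻¹ * (q * a * q⁻¹) * q := by rw [ha, hqa]
            _ = a := by group)
        have h5 : q ∈ U := (le_sup_right : _ ≤ U) hq
        have h4 := mul_mem (mul_mem h5 h3) (inv_mem h5)
        have e' : q * ((q⁻¹ * g) * y * (q⁻¹ * g)⁻¹) * q⁻¹ = g * y * g⁻¹ := by group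
        rwa [e'] at h4
    · intro y hy
      exact (le_sup_right : _ ≤ U) (e.conj_Q hz hy)
  exact key hx

theorem QX_le_S [Finite G] : (A ⊓ Subgroup.centralizer {z} ⊔ Q : Subgroup G) ≤ S := by
  set U : Subgroup G := A ⊓ Subgroup.centralizer {z} ⊔ Q with hU
  have h0 : IsPGroup 2 U := by
    refine IsPGroup.to_sup_of_normal_right' ((isPGroup e.p.la).to_le inf_le_left) (isPGroup e.p.lz) ?_
    exact normalizes_of fun x hx y hy => e.conj_Q (Subgroup.mem_centralizer_singleton_iff.1 hx.2) hy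
  have h1 : S ≤ Subgroup.normalizer (U : Set G) :=
    normalizes_of fun s hs x hx => e.conj_QX (e.S_comm hs) (e.S_a hs) hx
  have h2 : IsPGroup 2 (S ⊔ U : Subgroup G) := IsPGroup.to_sup_of_normal_right' e.S_two h0 h1
  have h3 : U ≤ L := sup_le (fun x hx => e.X_le x hx.1 (Subgroup.mem_centralizer_singleton_iff.1 hx.2)) e.Q_le
  exact le_trans le_sup_right (e.S_max _ (sup_le e.S_le h3) h2 le_sup_left)

/-- every element of `C(z)` which normalises `S` fixes the vector `a` -/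
theorem fix_a [Finite G] {b : G} (hbz : b * z = z * b) (hb : ∀ s ∈ S, b * s * b⁻¹ ∈ S) :
    b * a * b⁻¹ = a ∨ b * a * b⁻¹ = a * z := by
  have hbi : ∀ s ∈ S, b⁻¹ * s * b ∈ S := by
    intro s hs
    have h1 := Subgroup.mem_normalizer_iff.1 (inv_mem (mem_normalizer_of hb)) s
    rw [inv_inv] at h1
    exact h1.1 hs
  have h1 := e.p.lz.conj_mem b hbz a e.p.a_mem
  rcases e.fix _ h1 (by
    intro s hs
    have h3 := e.S_a (hbi s hs)
    have e' : s * (b * a * b⁻¹) * s⁻¹ = b * ((b⁻¹ * s * b) * a * (b⁻¹ * s * b)⁻¹) * b⁻¹ := by group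
    rw [e']
    rcases h3 with h3 | h3
    · left; rw [h3]
    · right
      rw [h3]
      calc b * (a * z) * b⁻¹ = b * a * b⁻¹ * ((b * z) * b⁻¹) := by group
        _ = b * a * b⁻¹ * z := by rw [hbz]; group) with h2 | h2 | h2 | h2
  · exfalso
    apply e.p.la.z_ne
    calc a = b⁻¹ * (b * a * b⁻¹) * b := by group
      _ = 1 := by rw [h2]; group
  · exfalso
    apply e.p.ne
    calc a = b⁻¹ * (b * a * b⁻¹) * b := by group
      _ = b⁻¹ * (z * b) := by rw [h2]; group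
      _ = z := by rw [← hbz]; group
  · exact Or.inl h2
  · exact Or.inr h2

/-- **The configuration.** -/
theorem cfg [Finite G] : Cfg Q A z a S (Bo S L) where
  p := e.p
  S_two := e.S_two
  Q_le_S := e.Q_le_S
  X_mem x hx hxz := e.QX_le_S ((le_sup_left : _ ≤ (A ⊓ Subgroup.centralizer {z} ⊔ Q : Subgroup G))
    ⟨hx, Subgroup.mem_centralizer_singleton_iff.2 hxz⟩)
  S_le := fun s hs => ⟨Subgroup.le_normalizer hs, e.S_le hs⟩
  B_comm b hb := e.L_comm b hb.2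
  B_a b hb := e.fix_a (e.L_comm b hb.2) (mem_Bo.1 hb).2
  S_of := by
    intro b hb n hn
    have hT : IsPGroup 2 (Subgroup.zpowers b) := by
      rw [IsPGroup.iff_card]
      obtain ⟨k, -, hk⟩ := (Nat.dvd_prime_pow Nat.prime_two).1 (orderOf_dvd_of_pow_eq_one hn)
      exact ⟨k, by rw [Nat.card_zpowers, hk]⟩
    have h1 : Subgroup.zpowers b ≤ Subgroup.normalizer (S : Set G) := by
      rw [Subgroup.zpowers_le]; exact hb.1
    have h2 := IsPGroup.to_sup_of_normal_right' hT e.S_two h1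
    have h3 : Subgroup.zpowers b ≤ L := by rw [Subgroup.zpowers_le]; exact hb.2
    exact (e.S_max _ (sup_le h3 e.S_le) h2 le_sup_right)
      ((le_sup_left : _ ≤ (Subgroup.zpowers b ⊔ S : Subgroup G)) (Subgroup.mem_zpowers b))

theorem cap [Finite G] : Cap z S (Bo S L) L where
  norm := e.L_norm
  pow := e.L_pow
  max _ hg hs := mem_Bo.2 ⟨hg, hs⟩

/-- a minimal parabolic of index three which moves `a` -/
theorem mov [Finite G] {P : Subgroup G} (hBP : Bo S L ≤ P) (hPL : P ≤ L) (hidx : (Bo S L).relIndex P = 3)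
    (hmv : ∃ g ∈ P, g * a * g⁻¹ ≠ a ∧ g * a * g⁻¹ ≠ a * z)
    (hD : ∀ v ∈ Q, v * a = a * v → (∀ x ∈ A, x * z = z * x →
      x * v * x⁻¹ = v ∨ x * v * x⁻¹ = v * z ∨ x * v * x⁻¹ = v * a ∨ x * v * x⁻¹ = v * (a * z)) → v ∈ A) :
    Mov Q A z a S (Bo S L) P :=
  { e.cfg with
    BP := hBP
    Pz := fun x hx => e.L_comm x (hPL hx)
    idx := hidx
    mv := hmv
    fix := e.fix
    hD := hD
    cap := ⟨L, hPL, e.cap⟩ }

/-- **Frattini** -/
theorem frattini [Finite G] {g : G} (hg : g * z = z * g) : ∃ l ∈ L, ∀ s ∈ S, (l⁻¹ * g) * s * (l⁻¹ * g)⁻¹ ∈ S := by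
  classical
  let S' : Sylow 2 L :=
    { toSubgroup := S.subgroupOf L
      isPGroup' := e.S_two.comap_subtype (K := L)
      is_maximal' := by
        intro T hT hST
        apply le_antisymm _ hST
        have h3 : IsPGroup 2 (T.map L.subtype) := hT.map _
        have h4 : S ≤ T.map L.subtype := fun s hs => ⟨⟨s, e.S_le hs⟩, hST hs, rfl⟩
        have h5 := e.S_max _ (by rintro _ ⟨t, -, rfl⟩; exact t.2) h3 h4
        intro t ht
        exact h5 ⟨t, ht, rfl⟩ }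
  let U : Subgroup G := S.map (MulAut.conj g).toMonoidHom
  have hU : IsPGroup 2 U := e.S_two.map _
  have hUL : U ≤ L := by
    rintro _ ⟨s, hs, rfl⟩
    exact e.L_norm g hg s (e.S_le hs)
  obtain ⟨R, hR⟩ := (hU.comap_subtype (K := L)).exists_le_sylow
  obtain ⟨x, hx⟩ := MulAction.exists_smul_eq L R S'
  refine ⟨(x : G)⁻¹, inv_mem x.2, fun s hs => ?_⟩
  have h1 : g * s * g⁻¹ ∈ U := ⟨s, hs, rfl⟩
  have h3 : (⟨g * s * g⁻¹, hUL h1⟩ : L) ∈ (R : Subgroup L) := hR h1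
  have h4 : MulAut.conj x (⟨g * s * g⁻¹, hUL h1⟩ : L) ∈ ((x • R : Sylow 2 L) : Subgroup L) := by
    rw [Sylow.coe_subgroup_smul]
    exact Subgroup.smul_mem_pointwise_smul _ _ _ h3
  rw [hx] at h4
  have h5 : (x : G) * (g * s * g⁻¹) * (x : G)⁻¹ ∈ S := h4
  have e' : ((x : G)⁻¹⁻¹ * g) * s * ((x : G)⁻¹⁻¹ * g)⁻¹ = (x : G) * (g * s * g⁻¹) * (x : G)⁻¹ := by group
  rw [e']; exact h5

/-- **(E7)** `C_G(z)` normalises `G0 = ⟨A, L⟩` -/
theorem conj_G0 [Finite G] {g : G} (hg : g * z = z * g) {x : G} (hx : x ∈ A ⊔ L) : g * x * g⁻¹ ∈ A ⊔ L := by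
  have hLG : L ≤ A ⊔ L := le_sup_right
  have hAG : A ≤ A ⊔ L := le_sup_left
  obtain ⟨l, hl, hn⟩ := e.frattini hg
  have hlz := e.L_comm l hl
  set n := l⁻¹ * g with hndef
  have hnz : n * z = z * n := by
    rw [hndef, mul_assoc, hg, ← mul_assoc, Cfg.comm_inv_of hlz, mul_assoc]
  have hnA : ∀ y ∈ A, n * y * n⁻¹ ∈ A ⊔ L := by
    intro y hy
    rcases e.fix_a hnz hn with h | h
    · exact hAG (e.conj_A (by rw [← mul_inv_eq_iff_eq_mul]; exact h) hy)
    · obtain ⟨q, hq, hqa⟩ := e.exists_q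
      have h1 : (q⁻¹ * n) * a = a * (q⁻¹ * n) := by
        rw [← mul_inv_eq_iff_eq_mul]
        calc (q⁻¹ * n) * a * (q⁻¹ * n)⁻¹ = q⁻¹ * (n * a * n⁻¹) * q := by group
          _ = q⁻¹ * (q * a * q⁻¹) * q := by rw [h, hqa]
          _ = a := by group
      have h2 := hAG (e.conj_A h1 hy)
      have h3 := hLG (e.Q_le hq)
      have h4 := mul_mem (mul_mem h3 h2) (inv_mem h3)
      have e' : q * ((q⁻¹ * n) * y * (q⁻¹ * n)⁻¹) * q⁻¹ = n * y * n⁻¹ := by group
      rwa [e'] at h4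
  have key : A ⊔ L ≤ (A ⊔ L).comap (MulAut.conj n).toMonoidHom := by
    refine sup_le (fun y hy => hnA y hy) ?_
    intro y hy
    exact hLG (e.L_norm n hnz y hy)
  have h1 : n * x * n⁻¹ ∈ A ⊔ L := key hx
  have h2 := mul_mem (mul_mem (hLG hl) h1) (inv_mem (hLG hl))
  have e' : l * (n * x * n⁻¹) * l⁻¹ = g * x * g⁻¹ := by rw [hndef]; group
  rwa [e'] at h2

/-- **(E7)** `N_G(⟨z, a⟩)` normalises `G0 = ⟨A, L⟩` -/
theorem conj_G0_V [Finite G] {g : G} (hg : g * z * g⁻¹ = z ∨ g * z * g⁻¹ = a ∨ g * z * g⁻¹ = a * z) {x : G}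
    (hx : x ∈ A ⊔ L) : g * x * g⁻¹ ∈ A ⊔ L := by
  obtain ⟨k, hk, hkz⟩ := e.cfg.exists_mem hg
  have hkG : k ∈ A ⊔ L := (sup_le_sup_left Bo_le A) hk
  have h1 : (k⁻¹ * g) * z = z * (k⁻¹ * g) := by
    rw [← mul_inv_eq_iff_eq_mul]
    calc (k⁻¹ * g) * z * (k⁻¹ * g)⁻¹ = k⁻¹ * (g * z * g⁻¹) * k := by group
      _ = k⁻¹ * (k * z * k⁻¹) * k := by rw [hkz]
      _ = z := by group
  have h2 := e.conj_G0 h1 hx
  have h3 := mul_mem (mul_mem hkG h2) (inv_mem hkG)
  have e' : k * ((k⁻¹ * g) * x * (k⁻¹ * g)⁻¹) * k⁻¹ = g * x * g⁻¹ := by group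
  rwa [e'] at h3

omit e in
/-- the case `L = C_G(z)`, `S` a Sylow 2-subgroup of `G` -/
theorem of_sylow [Finite G] {Q A : Subgroup G} {z a : G} (p : Pair Q z A a) (S : Sylow 2 G)
    (hz : ∀ s ∈ (S : Subgroup G), s * z = z * s)
    (hfix : ∀ x ∈ Q, (∀ s ∈ (S : Subgroup G), s * x * s⁻¹ = x ∨ s * x * s⁻¹ = x * z) →
      x = 1 ∨ x = z ∨ x = a ∨ x = a * z) :
    Lev Q A z a (S : Subgroup G) (Subgroup.centralizer {z}) where
  p := p
  L_comm l hl := Subgroup.mem_centralizer_singleton_iff.1 hl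
  L_norm g hg l hl := by
    have hl' := Subgroup.mem_centralizer_singleton_iff.1 hl
    apply Subgroup.mem_centralizer_singleton_iff.2
    have h2 := Cfg.comm_inv_of hg
    calc g * l * g⁻¹ * z = g * l * (g⁻¹ * z) := by group
      _ = g * (l * z) * g⁻¹ := by rw [h2]; group
      _ = (g * z) * l * g⁻¹ := by rw [hl']; group
      _ = z * (g * l * g⁻¹) := by rw [hg]; group
  L_pow g hg := ⟨0, by rw [pow_zero, pow_one]; exact Subgroup.mem_centralizer_singleton_iff.2 hg⟩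
  Q_le q hq := Subgroup.mem_centralizer_singleton_iff.2 (p.lz.comm_z q hq)
  X_le _ _ hxz := Subgroup.mem_centralizer_singleton_iff.2 hxz
  S_le s hs := Subgroup.mem_centralizer_singleton_iff.2 (hz s hs)
  S_two := S.isPGroup'
  S_max _ _ hT hST := (S.is_maximal' hT hST).le
  fix := hfix

end Lev

end Cfsg.Agent.Omega.ThmID
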