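import Cfsg.Agent.LargeExtra.Base

/-!
# THEOREM ID, part 1: the minimal parabolic which moves the central involution

`Cfg Q A z a S B`: a pair `(z, a)` of conjugate commuting involutions with large extraspecial subgroups `Q`, `A`,
a 2-group `S ≤ B ≤ C_G(z)` which contains `Q C_A(z)` and all 2-elements of `B`, and `B` normalises `⟨z, a⟩`
(`S` is not supposed to be a Sylow 2-subgroup of `G`).

`P0 = A ⊔ B` is a minimal parabolic: `|P0 : B| = 3`, `P0 ∩ C_G(z) = B`, `P0` is transitive on `{z, a, a z}`; and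
`P0 P = P P0` for every subgroup `P` of `C_G(z)` containing `B` which normalises `⟨z, a⟩`.
-/

set_option autoImplicit false

namespace Cfsg.Agent.Omega.ThmID

open Cfsg.Agent.Co2Type.Quad Cfsg.Agent.LargeExtra.Base

variable {G : Type*} [Group G]

/-- The configuration. -/
structure Cfg (Q A : Subgroup G) (z a : G) (S B : Subgroup G) : Prop where
  p : Pair Q z A a
  S_two : IsPGroup 2 S
  Q_le_S : Q ≤ S
  X_mem : ∀ x ∈ A, x * z = z * x → x ∈ S
  S_le : S ≤ B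
  B_comm : ∀ b ∈ B, b * z = z * b
  B_a : ∀ b ∈ B, b * a * b⁻¹ = a ∨ b * a * b⁻¹ = a * z
  S_of : ∀ b ∈ B, ∀ n : ℕ, b ^ 2 ^ n = 1 → b ∈ S

namespace Cfg

variable {Q A S B : Subgroup G} {z a : G} (c : Cfg Q A z a S B)

include c

theorem a_ne : a ≠ 1 := c.p.la.z_ne

theorem comm_az : a * z = z * a := c.p.comm_za

theorem zz : z * z = 1 := c.p.lz.z_sq

theorem aa : a * a = 1 := c.p.la.z_sq

/-- an element of `Q` which interchanges `a` and `a z` -/
theorem exists_q : ∃ q ∈ Q, q * a * q⁻¹ = a * z := by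
  obtain ⟨y, hy, h⟩ := exists_not_comm c.p.lz c.p.a_mem c.a_ne c.p.ne
  refine ⟨y, hy, ?_⟩
  rw [h, mul_assoc a y z, c.p.lz.comm_z y hy]
  group

/-- an element of `A` which interchanges `z` and `a z` -/
theorem exists_t : ∃ t ∈ A, t * z * t⁻¹ = a * z := by
  obtain ⟨y, hy, h⟩ := exists_not_comm c.p.la c.p.z_mem c.p.lz.z_ne c.p.ne.symm
  refine ⟨y, hy, ?_⟩
  rw [h, mul_assoc z y a, c.p.la.comm_z y hy, c.comm_az]
  group

theorem conj_az_of {g : G} (h1 : g * z = z * g) (h2 : g * a * g⁻¹ = a * z) : g * (a * z) * g⁻¹ = a := by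
  calc g * (a * z) * g⁻¹ = (g * a * g⁻¹) * (g * z * g⁻¹) := by group
    _ = (a * z) * (g * z * g⁻¹) := by rw [h2]
    _ = (a * z) * (z * g * g⁻¹) := by rw [h1]
    _ = a * (z * z) := by group
    _ = a := by rw [c.zz, mul_one]

/-- `Q` normalises; conjugation of `Q` by `C(z)` -/
theorem conj_Q {g : G} (h : g * z = z * g) {x : G} (hx : x ∈ Q) : g * x * g⁻¹ ∈ Q := c.p.lz.conj_mem g h x hx

theorem conj_A {g : G} (h : g * a = a * g) {x : G} (hx : x ∈ A) : g * x * g⁻¹ ∈ A := c.p.la.conj_mem g h x hx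

/-- **L1'** `t⁻¹ h t ∈ h X` for `h ∈ C(z) ∩ C(a)`. -/
theorem conj_t {t : G} (ht : t ∈ A) (ht1 : t * z * t⁻¹ = a * z) {h : G} (hz : h * z = z * h) (ha : h * a = a * h) :
    ∃ x ∈ A, x * z = z * x ∧ t⁻¹ * h * t = h * x := by
  refine ⟨h⁻¹ * t⁻¹ * h * t, ?_, ?_, by group⟩
  · have h1 : h⁻¹ * t⁻¹ * (h⁻¹)⁻¹ ∈ A := c.conj_A (g := h⁻¹)
      (by rw [inv_mul_eq_iff_eq_mul, ← mul_assoc, ha, mul_inv_cancel_right]) (inv_mem ht)
    rw [inv_inv] at h1
    exact mul_mem h1 ht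
  · -- commutes with `z`
    have e1 : t * z = a * z * t := by rw [← ht1]; group
    have e2 : h * (a * z) = a * z * h := by rw [← mul_assoc, ha, mul_assoc, hz, ← mul_assoc]
    have e3 : t⁻¹ * (a * z) = z * t⁻¹ := by rw [← ht1]; group
    calc h⁻¹ * t⁻¹ * h * t * z = h⁻¹ * t⁻¹ * h * (t * z) := by group
      _ = h⁻¹ * t⁻¹ * (h * (a * z)) * t := by rw [e1]; group
      _ = h⁻¹ * (t⁻¹ * (a * z)) * h * t := by rw [e2]; group
      _ = h⁻¹ * z * t⁻¹ * h * t := by rw [e3]; group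
      _ = z * h⁻¹ * t⁻¹ * h * t := by
          have : h⁻¹ * z = z * h⁻¹ := by rw [inv_mul_eq_iff_eq_mul, ← mul_assoc, hz, mul_inv_cancel_right]
          rw [this]
      _ = z * (h⁻¹ * t⁻¹ * h * t) := by group

omit c in
theorem comm_inv_of {g x : G} (h : g * x = x * g) : g⁻¹ * x = x * g⁻¹ := by
  rw [inv_mul_eq_iff_eq_mul, ← mul_assoc, h, mul_inv_cancel_right]

theorem QX_le_S : (A ⊓ Subgroup.centralizer {z} ⊔ Q : Subgroup G) ≤ S :=
  sup_le (fun _ hx => c.X_mem _ hx.1 (Subgroup.mem_centralizer_singleton_iff.1 hx.2)) c.Q_le_S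

/-- elements of `S` are 2-elements -/
theorem exists_pow {s : G} (hs : s ∈ S) : ∃ n : ℕ, s ^ 2 ^ n = 1 := by
  obtain ⟨n, hn⟩ := c.S_two ⟨s, hs⟩
  exact ⟨n, congrArg Subtype.val hn⟩

/-- `B` normalises `S` -/
theorem B_norm {b : G} (hb : b ∈ B) {s : G} (hs : s ∈ S) : b * s * b⁻¹ ∈ S := by
  obtain ⟨n, hn⟩ := c.exists_pow hs
  refine c.S_of _ (mul_mem (mul_mem hb (c.S_le hs)) (inv_mem hb)) n ?_
  rw [conj_pow, hn]; group

theorem Q_le_B : Q ≤ B := c.Q_le_S.trans c.S_le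

theorem X_mem_S {x : G} (hx : x ∈ A) (hz : x * z = z * x) : x ∈ S := c.X_mem x hx hz

theorem X_mem_B {x : G} (hx : x ∈ A) (hz : x * z = z * x) : x ∈ B := c.S_le (c.X_mem_S hx hz)

/-- `A` is the conjugate of `Q` by any element which moves `z` to `a` -/
theorem mem_Q_of {g : G} (hg : g * z * g⁻¹ = a) {x : G} (hx : x ∈ A) : g⁻¹ * x * g ∈ Q := by
  obtain ⟨k, h1, -, h3, -⟩ := c.p.isConj
  have h4 := map_eq_of_conj c.p.lz (g := k) (g' := g) (h1.trans hg.symm)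
  rw [h3, h4] at hx
  obtain ⟨y, hy, rfl⟩ := hx
  have e : g⁻¹ * (MulAut.conj g).toMonoidHom y * g = y := by
    show g⁻¹ * (g * y * g⁻¹) * g = y
    group
  rw [e]; exact hy

omit c in
/-- **The minimal parabolic** `P0 = ⟨A, B⟩`. -/
def P0 (A B : Subgroup G) : Subgroup G := A ⊔ B

omit c in
theorem A_le : A ≤ P0 A B := le_sup_left

omit c in
theorem B_le : B ≤ P0 A B := le_sup_right

/-- the description of `P0` by cosets -/
theorem cosets {t q : G} (ht : t ∈ A) (ht1 : t * z * t⁻¹ = a * z) (hq : q ∈ Q) (hq1 : q * a * q⁻¹ = a * z)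
    {g : G} (hg : g ∈ P0 A B) : g ∈ B ∨ t⁻¹ * g ∈ B ∨ (q * t)⁻¹ * g ∈ B := by
  have hqz := c.p.lz.comm_z q hq
  have hqB := c.Q_le_B hq
  have hta := c.p.la.comm_z t ht
  have L1 : ∀ h ∈ B, h * a = a * h → t⁻¹ * h * t ∈ B := by
    intro h hh ha
    obtain ⟨x, hx, hxz, e⟩ := c.conj_t ht ht1 (c.B_comm h hh) ha
    rw [e]
    exact mul_mem hh (c.X_mem_B hx hxz)
  -- left multiplication by `B`
  have hBt : ∀ h ∈ B, t⁻¹ * (h * t) ∈ B ∨ (q * t)⁻¹ * (h * t) ∈ B := by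
    intro h hh
    rcases c.B_a h hh with h1 | h1
    · left
      have := L1 h hh (by rw [← mul_inv_eq_iff_eq_mul]; exact h1)
      rwa [mul_assoc] at this
    · right
      have h2 : (q⁻¹ * h) * a = a * (q⁻¹ * h) := by
        have : (q⁻¹ * h) * a * (q⁻¹ * h)⁻¹ = a := by
          calc (q⁻¹ * h) * a * (q⁻¹ * h)⁻¹ = q⁻¹ * (h * a * h⁻¹) * q := by group
            _ = q⁻¹ * (q * a * q⁻¹) * q := by rw [h1, hq1]
            _ = a := by group
        rw [← mul_inv_eq_iff_eq_mul]; exact this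
      have h3 := L1 _ (mul_mem (inv_mem hqB) hh) h2
      have e : (q * t)⁻¹ * (h * t) = t⁻¹ * (q⁻¹ * h) * t := by group
      rw [e]; exact h3
  have hBqt : ∀ h ∈ B, t⁻¹ * (h * (q * t)) ∈ B ∨ (q * t)⁻¹ * (h * (q * t)) ∈ B := by
    intro h hh
    rcases hBt (h * q) (mul_mem hh hqB) with h1 | h1
    · left
      have e : t⁻¹ * (h * (q * t)) = t⁻¹ * (h * q * t) := by group
      rw [e]; exact h1
    · right
      have e : (q * t)⁻¹ * (h * (q * t)) = (q * t)⁻¹ * (h * q * t) := by group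
      rw [e]; exact h1
  have hB : ∀ h ∈ B, ∀ g, (g ∈ B ∨ t⁻¹ * g ∈ B ∨ (q * t)⁻¹ * g ∈ B) →
      (h * g ∈ B ∨ t⁻¹ * (h * g) ∈ B ∨ (q * t)⁻¹ * (h * g) ∈ B) := by
    rintro h hh g (hg | hg | hg)
    · exact Or.inl (mul_mem hh hg)
    · rcases hBt h hh with h1 | h1
      · right; left
        have e : t⁻¹ * (h * g) = (t⁻¹ * (h * t)) * (t⁻¹ * g) := by group
        rw [e]; exact mul_mem h1 hg
      · right; right
        have e : (q * t)⁻¹ * (h * g) = ((q * t)⁻¹ * (h * t)) * (t⁻¹ * g) := by group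
        rw [e]; exact mul_mem h1 hg
    · rcases hBqt h hh with h1 | h1
      · right; left
        have e : t⁻¹ * (h * g) = (t⁻¹ * (h * (q * t))) * ((q * t)⁻¹ * g) := by group
        rw [e]; exact mul_mem h1 hg
      · right; right
        have e : (q * t)⁻¹ * (h * g) = ((q * t)⁻¹ * (h * (q * t))) * ((q * t)⁻¹ * g) := by group
        rw [e]; exact mul_mem h1 hg
  -- left multiplication by `A`
  have hX : ∀ h ∈ A, h * z * h⁻¹ = z → h ∈ B := fun h hh h1 =>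
    c.X_mem_B hh (by rw [← mul_inv_eq_iff_eq_mul]; exact h1)
  have hAz : ∀ h ∈ A, h * z * h⁻¹ = z ∨ h * z * h⁻¹ = a * z := by
    intro h hh
    rcases c.p.la.comm h hh z c.p.z_mem with h1 | h1
    · left; rw [h1]; group
    · right
      rw [h1, mul_assoc z h a, c.p.la.comm_z h hh, c.comm_az]
      group
  have hA1 : ∀ h ∈ A, h ∈ B ∨ t⁻¹ * h ∈ B := by
    intro h hh
    rcases hAz h hh with h1 | h1
    · exact Or.inl (hX h hh h1)
    · right
      apply hX _ (mul_mem (inv_mem ht) hh)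
      calc t⁻¹ * h * z * (t⁻¹ * h)⁻¹ = t⁻¹ * (h * z * h⁻¹) * t := by group
        _ = t⁻¹ * (t * z * t⁻¹) * t := by rw [h1, ht1]
        _ = z := by group
  have hqt : (q * t) * z * (q * t)⁻¹ = a := by
    calc (q * t) * z * (q * t)⁻¹ = q * (t * z * t⁻¹) * q⁻¹ := by group
      _ = q * (a * z) * q⁻¹ := by rw [ht1]
      _ = a := c.conj_az_of hqz hq1
  have hA : ∀ h ∈ A, ∀ g, (g ∈ B ∨ t⁻¹ * g ∈ B ∨ (q * t)⁻¹ * g ∈ B) →
      (h * g ∈ B ∨ t⁻¹ * (h * g) ∈ B ∨ (q * t)⁻¹ * (h * g) ∈ B) := by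
    rintro h hh g (hg | hg | hg)
    · rcases hA1 h hh with h1 | h1
      · exact Or.inl (mul_mem h1 hg)
      · right; left
        rw [← mul_assoc]; exact mul_mem h1 hg
    · rcases hA1 (h * t) (mul_mem hh ht) with h1 | h1
      · left
        have e : h * g = (h * t) * (t⁻¹ * g) := by group
        rw [e]; exact mul_mem h1 hg
      · right; left
        have e : t⁻¹ * (h * g) = (t⁻¹ * (h * t)) * (t⁻¹ * g) := by group
        rw [e]; exact mul_mem h1 hg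
    · right; right
      have h1 : (q * t)⁻¹ * h * (q * t) ∈ Q := c.mem_Q_of hqt hh
      have e : (q * t)⁻¹ * (h * g) = ((q * t)⁻¹ * h * (q * t)) * ((q * t)⁻¹ * g) := by group
      rw [e]; exact mul_mem (c.Q_le_B h1) hg
  -- induction
  have hg' : g ∈ Subgroup.closure ((A : Set G) ∪ B) := by
    rw [Subgroup.closure_union, Subgroup.closure_eq, Subgroup.closure_eq]; exact hg
  induction hg' using Subgroup.closure_induction_left with
  | one => exact Or.inl (one_mem _)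
  | mul_left x hx y hy ih =>
    rcases hx with hx | hx
    · exact hA x hx y (ih (by
        rw [Subgroup.closure_union, Subgroup.closure_eq, Subgroup.closure_eq] at hy; exact hy))
    · exact hB x hx y (ih (by
        rw [Subgroup.closure_union, Subgroup.closure_eq, Subgroup.closure_eq] at hy; exact hy))
  | inv_mul_cancel x hx y hy ih =>
    rcases hx with hx | hx
    · exact hA _ (inv_mem hx) y (ih (by
        rw [Subgroup.closure_union, Subgroup.closure_eq, Subgroup.closure_eq] at hy; exact hy))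
    · exact hB _ (inv_mem hx) y (ih (by
        rw [Subgroup.closure_union, Subgroup.closure_eq, Subgroup.closure_eq] at hy; exact hy))

/-- the three points -/
theorem conj_z {g : G} (hg : g ∈ P0 A B) : g * z * g⁻¹ = z ∨ g * z * g⁻¹ = a ∨ g * z * g⁻¹ = a * z := by
  obtain ⟨t, ht, ht1⟩ := c.exists_t
  obtain ⟨q, hq, hq1⟩ := c.exists_q
  have hBz : ∀ b ∈ B, b * z * b⁻¹ = z := fun b hb => by rw [c.B_comm b hb]; group
  rcases c.cosets ht ht1 hq hq1 hg with h | h | h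
  · exact Or.inl (hBz g h)
  · right; right
    calc g * z * g⁻¹ = t * ((t⁻¹ * g) * z * (t⁻¹ * g)⁻¹) * t⁻¹ := by group
      _ = a * z := by rw [hBz _ h, ht1]
  · right; left
    calc g * z * g⁻¹ = (q * t) * (((q * t)⁻¹ * g) * z * ((q * t)⁻¹ * g)⁻¹) * (q * t)⁻¹ := by group
      _ = q * (t * z * t⁻¹) * q⁻¹ := by rw [hBz _ h]; group
      _ = a := by rw [ht1]; exact c.conj_az_of (c.p.lz.comm_z q hq) hq1

theorem az_ne : a * z ≠ z := fun h => c.a_ne (mul_eq_right.1 h)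

theorem az_ne' : a * z ≠ a := fun h => c.p.lz.z_ne (mul_eq_left.1 h)

/-- `P0 ∩ C(z) = B` -/
theorem mem_B_of {g : G} (hg : g ∈ P0 A B) (hz : g * z = z * g) : g ∈ B := by
  obtain ⟨t, ht, ht1⟩ := c.exists_t
  obtain ⟨q, hq, hq1⟩ := c.exists_q
  have hgz : g * z * g⁻¹ = z := by rw [hz]; group
  have hBz : ∀ b ∈ B, b * z * b⁻¹ = z := fun b hb => by rw [c.B_comm b hb]; group
  rcases c.cosets ht ht1 hq hq1 hg with h | h | h
  · exact h
  · exfalso
    apply c.az_ne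
    calc a * z = t * ((t⁻¹ * g) * z * (t⁻¹ * g)⁻¹) * t⁻¹ := by rw [hBz _ h, ht1]
      _ = g * z * g⁻¹ := by group
      _ = z := hgz
  · exfalso
    apply c.p.ne
    calc a = q * (a * z) * q⁻¹ := (c.conj_az_of (c.p.lz.comm_z q hq) hq1).symm
      _ = (q * t) * (((q * t)⁻¹ * g) * z * ((q * t)⁻¹ * g)⁻¹) * (q * t)⁻¹ := by rw [hBz _ h, ← ht1]; group
      _ = g * z * g⁻¹ := by group
      _ = z := hgz

/-- `P0` is transitive on `{z, a, a z}` -/
theorem exists_mem {u : G} (hu : u = z ∨ u = a ∨ u = a * z) : ∃ g ∈ P0 A B, g * z * g⁻¹ = u := by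
  obtain ⟨t, ht, ht1⟩ := c.exists_t
  obtain ⟨q, hq, hq1⟩ := c.exists_q
  rcases hu with rfl | rfl | rfl
  · exact ⟨1, one_mem _, by group⟩
  · refine ⟨q * t, mul_mem (B_le (c.Q_le_B hq)) (A_le ht), ?_⟩
    calc (q * t) * z * (q * t)⁻¹ = q * (t * z * t⁻¹) * q⁻¹ := by group
      _ = q * (u * z) * q⁻¹ := by rw [ht1]
      _ = u := c.conj_az_of (c.p.lz.comm_z q hq) hq1
  · exact ⟨t, A_le ht, ht1⟩

/-- `P0` normalises `⟨z, a⟩` -/
theorem conj_V {g : G} (hg : g ∈ P0 A B) {u : G} (hu : u = z ∨ u = a ∨ u = a * z) :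
    g * u * g⁻¹ = z ∨ g * u * g⁻¹ = a ∨ g * u * g⁻¹ = a * z := by
  obtain ⟨k, hk, hku⟩ := c.exists_mem hu
  have h1 := c.conj_z (mul_mem hg hk)
  have e : g * k * z * (g * k)⁻¹ = g * u * g⁻¹ := by rw [← hku]; group
  rwa [e] at h1

/-- elements of `P0` with the same point are in the same coset of `B` -/
theorem mem_B_of_eq {g h : G} (hg : g ∈ P0 A B) (hh : h ∈ P0 A B) (e : g * z * g⁻¹ = h * z * h⁻¹) :
    g⁻¹ * h ∈ B := by
  apply c.mem_B_of (mul_mem (inv_mem hg) hh)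
  have : (g⁻¹ * h) * z * (g⁻¹ * h)⁻¹ = z := by
    calc (g⁻¹ * h) * z * (g⁻¹ * h)⁻¹ = g⁻¹ * (h * z * h⁻¹) * g := by group
      _ = g⁻¹ * (g * z * g⁻¹) * g := by rw [e]
      _ = z := by group
  rw [← mul_inv_eq_iff_eq_mul]; exact this

/-- **(ID2)** the digon: `P P0 ⊆ P0 P` for `B ≤ P ≤ C(z) ∩ N(⟨z, a⟩)` -/
theorem digon {P : Subgroup G} (hBP : B ≤ P) (hPz : ∀ x ∈ P, x * z = z * x)
    (hPa : ∀ x ∈ P, x * a * x⁻¹ = a ∨ x * a * x⁻¹ = a * z) {x y : G} (hx : x ∈ P0 A B) (hy : y ∈ P) :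
    ∃ x' ∈ P0 A B, ∃ y' ∈ P, y * x = x' * y' := by
  obtain ⟨t, ht, ht1⟩ := c.exists_t
  obtain ⟨q, hq, hq1⟩ := c.exists_q
  have hqB := c.Q_le_B hq
  have key : ∀ y ∈ P, ∃ x' ∈ P0 A B, ∃ y' ∈ P, y * t = x' * y' := by
    intro y hy
    rcases hPa y hy with h1 | h1
    · obtain ⟨w, hw, hwz, e⟩ := c.conj_t ht ht1 (hPz y hy) (by rw [← mul_inv_eq_iff_eq_mul]; exact h1)
      refine ⟨t, A_le ht, y * w, mul_mem hy (hBP (c.X_mem_B hw hwz)), ?_⟩
      rw [← e]; group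
    · have hy' : q⁻¹ * y ∈ P := mul_mem (inv_mem (hBP hqB)) hy
      have h2 : (q⁻¹ * y) * a = a * (q⁻¹ * y) := by
        have : (q⁻¹ * y) * a * (q⁻¹ * y)⁻¹ = a := by
          calc (q⁻¹ * y) * a * (q⁻¹ * y)⁻¹ = q⁻¹ * (y * a * y⁻¹) * q := by group
            _ = q⁻¹ * (q * a * q⁻¹) * q := by rw [h1, hq1]
            _ = a := by group
        rw [← mul_inv_eq_iff_eq_mul]; exact this
      obtain ⟨w, hw, hwz, e⟩ := c.conj_t ht ht1 (hPz _ hy') h2
      refine ⟨q * t, mul_mem (B_le hqB) (A_le ht), q⁻¹ * y * w,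
        mul_mem hy' (hBP (c.X_mem_B hw hwz)), ?_⟩
      rw [← e]; group
  rcases c.cosets ht ht1 hq hq1 hx with h | h | h
  · exact ⟨1, one_mem _, y * x, mul_mem hy (hBP h), by group⟩
  · obtain ⟨x', hx', y', hy', e⟩ := key y hy
    refine ⟨x', hx', y' * (t⁻¹ * x), mul_mem hy' (hBP h), ?_⟩
    rw [← mul_assoc, ← e]; group
  · obtain ⟨x', hx', y', hy', e⟩ := key (y * q) (mul_mem hy (hBP hqB))
    refine ⟨x', hx', y' * ((q * t)⁻¹ * x), mul_mem hy' (hBP h), ?_⟩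
    rw [← mul_assoc, ← e]; group

theorem inf_eq {P : Subgroup G} (hBP : B ≤ P) (hPz : ∀ x ∈ P, x * z = z * x) : P0 A B ⊓ P = B := by
  apply le_antisymm
  · exact fun x hx => c.mem_B_of hx.1 (hPz x hx.2)
  · exact le_inf B_le hBP

/-- `|P0 : B| = 3` -/
theorem relIndex_eq : B.relIndex (P0 A B) = 3 := by
  classical
  obtain ⟨t, ht, ht1⟩ := c.exists_t
  obtain ⟨q, hq, hq1⟩ := c.exists_q
  have htP : t ∈ P0 A B := A_le ht
  have hqtP : q * t ∈ P0 A B := mul_mem (B_le (c.Q_le_B hq)) (A_le ht)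
  have hqt : (q * t) * z * (q * t)⁻¹ = a := by
    calc (q * t) * z * (q * t)⁻¹ = q * (t * z * t⁻¹) * q⁻¹ := by group
      _ = q * (a * z) * q⁻¹ := by rw [ht1]
      _ = a := c.conj_az_of (c.p.lz.comm_z q hq) hq1
  -- points
  let f : (P0 A B) ⧸ (B.subgroupOf (P0 A B)) → Fin 3 := fun x =>
    if (x.out : G) * z * (x.out : G)⁻¹ = z then 0 else if (x.out : G) * z * (x.out : G)⁻¹ = a then 1 else 2
  have hval : ∀ x y : (P0 A B) ⧸ (B.subgroupOf (P0 A B)),
      (x.out : G) * z * (x.out : G)⁻¹ = (y.out : G) * z * (y.out : G)⁻¹ → x = y := by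
    intro x y h
    have h1 := c.mem_B_of_eq x.out.2 y.out.2 h
    rw [← QuotientGroup.out_eq' x, ← QuotientGroup.out_eq' y, QuotientGroup.eq]
    exact h1
  have hinj : Function.Injective f := by
    intro x y h
    apply hval
    rcases c.conj_z x.out.2 with h1 | h1 | h1 <;> rcases c.conj_z y.out.2 with h2 | h2 | h2 <;>
      simp only [f, h1, h2, c.p.ne, c.az_ne, c.az_ne', if_true, if_false] at h ⊢ <;>
      first
        | rfl
        | exact absurd h (by decide)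
  have hpt : ∀ (g : G) (hg : g ∈ P0 A B),
      ((QuotientGroup.mk (⟨g, hg⟩ : P0 A B) : (P0 A B) ⧸ (B.subgroupOf (P0 A B))).out : G) * z *
        ((QuotientGroup.mk (⟨g, hg⟩ : P0 A B) : (P0 A B) ⧸ (B.subgroupOf (P0 A B))).out : G)⁻¹ =
        g * z * g⁻¹ := by
    intro g hg
    set x : (P0 A B) ⧸ (B.subgroupOf (P0 A B)) := QuotientGroup.mk (⟨g, hg⟩ : P0 A B) with hx
    have h1 : (⟨g, hg⟩ : P0 A B)⁻¹ * x.out ∈ B.subgroupOf (P0 A B) := by
      rw [← QuotientGroup.eq, QuotientGroup.out_eq']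
    have h2 : g⁻¹ * (x.out : G) ∈ B := h1
    have h3 : g⁻¹ * (x.out : G) * z * (g⁻¹ * (x.out : G))⁻¹ = z := by rw [c.B_comm _ h2]; group
    calc (x.out : G) * z * (x.out : G)⁻¹ = g * (g⁻¹ * (x.out : G) * z * (g⁻¹ * (x.out : G))⁻¹) * g⁻¹ := by group
      _ = g * z * g⁻¹ := by rw [h3]
  have hsurj : Function.Surjective f := by
    intro i
    fin_cases i
    · refine ⟨QuotientGroup.mk ⟨1, one_mem _⟩, ?_⟩
      have h1 := hpt 1 (one_mem _)
      have h2 : (1 : G) * z * (1 : G)⁻¹ = z := by group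
      simp only [f]
      rw [if_pos (h1.trans h2)]
      rfl
    · refine ⟨QuotientGroup.mk ⟨q * t, hqtP⟩, ?_⟩
      have h1 := (hpt _ hqtP).trans hqt
      simp only [f]
      rw [if_neg (by rw [h1]; exact c.p.ne), if_pos h1]
      rfl
    · refine ⟨QuotientGroup.mk ⟨t, htP⟩, ?_⟩
      have h1 := (hpt _ htP).trans ht1
      simp only [f]
      rw [if_neg (by rw [h1]; exact c.az_ne), if_neg (by rw [h1]; exact c.az_ne')]
      rfl
  have h1 : Nat.card ((P0 A B) ⧸ (B.subgroupOf (P0 A B))) = Nat.card (Fin 3) :=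
    Nat.card_eq_of_bijective f ⟨hinj, hsurj⟩
  rw [Nat.card_fin] at h1
  exact h1

end Cfg

end Cfsg.Agent.Omega.ThmID
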