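import Cfsg.Agent.Omega.ThmID.Of

/-!
# THEOREM ID, part 6: parabolic systems of a quotient of a subgroup

`M0` a subgroup of `G`, `φ : M0 → X` surjective, `up φ T` the preimage of `T ≤ X` as a subgroup of `G`.  Polygons, indices,
the panel condition and generation pass from `(B', P')` in `X` to `(up φ B', up φ (P' j))` in `G`.

`XSys T B' P' M q`: a system of minimal parabolics `P' j` over the Borel subgroup `B' = N(T)`, `T` a Sylow 2-subgroup of `X`,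
with generalised `M i j`-gons as residues and `q j + 1` chambers in the panels.

**THEOREM END** (`end_sys`): `L` normal in `C_G(z)`, `C_G(z) / L` a 2-group, `L / Q = X` with `XSys`; then the group
`G0 = ⟨A, L⟩` with the parabolics `P0 = ⟨A, B⟩`, `P j` satisfies the hypothesis of THEOREM FREE, and `C_G(z)`,
`N_G(⟨z, a⟩)` normalise `G0` (`Lev.conj_G0`, `Lev.conj_G0_V`).
-/

set_option autoImplicit false

namespace Cfsg.Agent.Omega.ThmID

open Cfsg.Agent.Co2Type.Quad Cfsg.Agent.LargeExtra.Base Cfsg.Agent.ParSys Cfsg.Agent.ParSys.Free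
  Cfsg.Agent.ParSys.RankTwo

variable {G : Type*} [Group G] {X : Type*} [Group X] {M0 : Subgroup G}

/-- the preimage, as a subgroup of `G` -/
def up (φ : M0 →* X) (T : Subgroup X) : Subgroup G := (T.comap φ).map M0.subtype

theorem mem_up {φ : M0 →* X} {T : Subgroup X} {g : G} : g ∈ up φ T ↔ ∃ h : g ∈ M0, φ ⟨g, h⟩ ∈ T := by
  constructor
  · rintro ⟨⟨x, hx⟩, h1, rfl⟩
    exact ⟨hx, h1⟩
  · rintro ⟨h, h1⟩
    exact ⟨⟨g, h⟩, h1, rfl⟩

theorem up_le (φ : M0 →* X) (T : Subgroup X) : up φ T ≤ M0 := fun _ h => (mem_up.1 h).1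

theorem up_mono (φ : M0 →* X) {T T' : Subgroup X} (h : T ≤ T') : up φ T ≤ up φ T' := by
  intro g hg
  obtain ⟨h1, h2⟩ := mem_up.1 hg
  exact mem_up.2 ⟨h1, h h2⟩

theorem coe_mem_up {φ : M0 →* X} {T : Subgroup X} {x : M0} : (x : G) ∈ up φ T ↔ φ x ∈ T :=
  ⟨fun h => (mem_up.1 h).2, fun h => mem_up.2 ⟨x.2, h⟩⟩

theorem up_top (φ : M0 →* X) : up φ ⊤ = M0 := by
  ext g
  rw [mem_up]
  exact ⟨fun h => h.1, fun h => ⟨h, trivial⟩⟩

/-- polygons -/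
theorem polygon_up {J : Type*} {φ : M0 →* X} (hs : Function.Surjective φ) {B' : Subgroup X} {P' : J → Subgroup X}
    (hBP : ∀ j, B' ≤ P' j) {i j : J} {m : ℕ} (h : Polygon B' P' i j m) :
    Polygon (up φ B') (fun j => up φ (P' j)) i j m := by
  have L := link_of_hom (B := up φ B') (P := fun j => up φ (P' j)) (a := i) (b := j) (B' := B') (P' := P')
    M0 φ (MonoidHom.id X) B' P' (fun k _ => up_le φ (P' k)) (fun x => coe_mem_up) (fun k _ x => coe_mem_up)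
    (fun e => Iff.rfl) (fun k _ e => Iff.rfl) (fun k _ => hBP k) (fun e => hs e)
    (fun k _ y _ => ⟨y, 1, one_mem _, by simp⟩)
  exact L.polygon h

theorem relIndex_up {φ : M0 →* X} (hs : Function.Surjective φ) {B' T : Subgroup X} :
    (up φ B').relIndex (up φ T) = B'.relIndex T := by
  have h1 : (up φ B').relIndex (up φ T) = (B'.comap φ).relIndex (T.comap φ) := by
    rw [up, up, Subgroup.relIndex_map_map_of_injective _ _ M0.subtype_injective]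
  rw [h1]
  rw [Subgroup.relIndex_comap, Subgroup.map_comap_eq_self_of_surjective hs]

/-- the panel condition -/
theorem pan_up {φ : M0 →* X} {B' T U' : Subgroup X}
    (h : ∀ g ∈ U', ∀ x ∈ T, x ∉ B' → x⁻¹ * g * x ∈ B' → ∀ y ∈ T, y⁻¹ * g * y ∈ B') {U : Subgroup G}
    (hU : U ≤ up φ U') :
    ∀ g ∈ U, ∀ x ∈ up φ T, x ∉ up φ B' → x⁻¹ * g * x ∈ up φ B' → ∀ y ∈ up φ T, y⁻¹ * g * y ∈ up φ B' := by
  intro g hg x hx hxB hgx y hy
  obtain ⟨hg1, hg2⟩ := mem_up.1 (hU hg)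
  obtain ⟨hx1, hx2⟩ := mem_up.1 hx
  obtain ⟨hy1, hy2⟩ := mem_up.1 hy
  obtain ⟨h3, h4⟩ := mem_up.1 hgx
  have e1 : φ ⟨x⁻¹ * g * x, h3⟩ = (φ ⟨x, hx1⟩)⁻¹ * φ ⟨g, hg1⟩ * φ ⟨x, hx1⟩ := by
    rw [← map_inv, ← map_mul, ← map_mul]; rfl
  rw [e1] at h4
  have h5 := h _ hg2 _ hx2 (fun h' => hxB (mem_up.2 ⟨hx1, h'⟩)) h4 _ hy2
  have e2 : φ ⟨y⁻¹ * g * y, mul_mem (mul_mem (inv_mem hy1) hg1) hy1⟩ =
      (φ ⟨y, hy1⟩)⁻¹ * φ ⟨g, hg1⟩ * φ ⟨y, hy1⟩ := by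
    rw [← map_inv, ← map_mul, ← map_mul]; rfl
  exact mem_up.2 ⟨_, by rw [e2]; exact h5⟩

/-- generation -/
theorem iSup_up {J : Type*} {φ : M0 →* X} {B' : Subgroup X} {P' : J → Subgroup X} (hs : Function.Surjective φ)
    (hgen : B' ⊔ ⨆ j, P' j = ⊤) (hker : φ.ker ≤ B'.comap φ) : up φ B' ⊔ ⨆ j, up φ (P' j) = M0 := by
  apply le_antisymm
  · exact sup_le (up_le _ _) (iSup_le fun j => up_le _ _)
  · have h1 : (⊤ : Subgroup M0) = B'.comap φ ⊔ ⨆ j, (P' j).comap φ := by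
      apply le_antisymm _ le_top
      intro x _
      have h2 : φ x ∈ (B'.comap φ ⊔ ⨆ j, (P' j).comap φ).map φ := by
        rw [Subgroup.map_sup, Subgroup.map_iSup]
        simp only [Subgroup.map_comap_eq_self_of_surjective hs]
        rw [hgen]; trivial
      obtain ⟨y, hy, e⟩ := h2
      have h3 : y⁻¹ * x ∈ B'.comap φ := by
        apply hker
        rw [MonoidHom.mem_ker, map_mul, map_inv, e, inv_mul_cancel]
      have h4 := mul_mem hy ((le_sup_left : _ ≤ B'.comap φ ⊔ ⨆ j, (P' j).comap φ) h3)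
      rwa [mul_inv_cancel_left] at h4
    have h2 := congrArg (Subgroup.map M0.subtype) h1
    rw [Subgroup.map_sup, Subgroup.map_iSup, ← MonoidHom.range_eq_map, Subgroup.range_subtype] at h2
    exact h2.le

/-- the polygons of a (B,N)-pair -/
theorem polygon_bn {J : Type*} (R : Cfsg.BNPair X) (e : J → X) (he : ∀ j, e j ∈ R.S) {i j : J} {m : ℕ}
    (hm : LieRecognition.FeitHigmanGroup.Red R (e i) (e j) m)
    (hbr : (LieRecognition.FeitHigmanGroup.alt m (e i) (e j))⁻¹ *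
      LieRecognition.FeitHigmanGroup.alt m (e j) (e i) ∈ R.B) :
    Polygon R.B (fun j => R.parabolic {e j}) i j m :=
  polygon_of_red (P := fun j => R.parabolic {e j}) (a := i) (b := j) (he i) (he j) rfl rfl hm hbr

/-- A system of minimal parabolics of `X` over the normaliser `B'` of a Sylow 2-subgroup `T`. -/
structure XSys {J : Type*} (T B' : Subgroup X) (P' : J → Subgroup X) (M : J → J → ℕ) (q : J → ℕ) : Prop where
  two : IsPGroup 2 T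
  max : ∀ U : Subgroup X, IsPGroup 2 U → T ≤ U → U ≤ T
  mem_B : ∀ x, x ∈ B' ↔ ∀ t ∈ T, x * t * x⁻¹ ∈ T
  BP : ∀ j, B' ≤ P' j
  gen : B' ⊔ ⨆ j, P' j = ⊤
  pol : ∀ i j, i ≠ j → Polygon B' P' i j (M i j)
  card : ∀ j, B'.relIndex (P' j) = q j + 1
  pan : ∀ j, ∀ g ∈ T, ∀ x ∈ P' j, x ∉ B' → x⁻¹ * g * x ∈ B' → ∀ y ∈ P' j, y⁻¹ * g * y ∈ B'

theorem up_two {φ : M0 →* X} {T : Subgroup X} (hT : IsPGroup 2 T) {Q : Subgroup G} (hQ : IsPGroup 2 Q)
    (hker : ∀ x : M0, φ x = 1 → (x : G) ∈ Q) : IsPGroup 2 (up φ T) := by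
  rintro ⟨g, hg⟩
  obtain ⟨h, h1⟩ := mem_up.1 hg
  obtain ⟨n, hn⟩ := hT ⟨φ ⟨g, h⟩, h1⟩
  have hn' : φ ⟨g, h⟩ ^ 2 ^ n = 1 := congrArg Subtype.val hn
  rw [← map_pow] at hn'
  obtain ⟨m, hm⟩ := hQ ⟨_, hker _ hn'⟩
  have hm' : (g ^ 2 ^ n) ^ 2 ^ m = 1 := congrArg Subtype.val hm
  refine ⟨n + m, Subtype.ext ?_⟩
  show g ^ 2 ^ (n + m) = 1
  rw [pow_add, pow_mul]; exact hm'

/-- the preimage of a Sylow 2-subgroup -/
theorem up_max {φ : M0 →* X} (hs : Function.Surjective φ) {T : Subgroup X}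
    (hT : ∀ U : Subgroup X, IsPGroup 2 U → T ≤ U → U ≤ T) (U : Subgroup G) (hU : U ≤ M0) (hU2 : IsPGroup 2 U)
    (hTU : up φ T ≤ U) : U ≤ up φ T := by
  have h1 : IsPGroup 2 ((U.subgroupOf M0).map φ) := (hU2.comap_subtype (K := M0)).map φ
  have h2 : T ≤ (U.subgroupOf M0).map φ := by
    intro t ht
    obtain ⟨x, rfl⟩ := hs t
    exact ⟨x, hTU (coe_mem_up.2 ht), rfl⟩
  intro u hu
  exact mem_up.2 ⟨hU hu, hT _ h1 h2 ⟨⟨u, hU hu⟩, hu, rfl⟩⟩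

/-- the preimage of the normaliser of `T` -/
theorem Bo_up [Finite G] {φ : M0 →* X} (hs : Function.Surjective φ) {T B' : Subgroup X}
    (hB : ∀ x, x ∈ B' ↔ ∀ t ∈ T, x * t * x⁻¹ ∈ T) : Bo (up φ T) M0 = up φ B' := by
  ext g
  rw [mem_Bo, mem_up]
  have key : ∀ (hg : g ∈ M0) (x : M0), φ (⟨g, hg⟩ * x * (⟨g, hg⟩ : M0)⁻¹) = φ ⟨g, hg⟩ * φ x * (φ ⟨g, hg⟩)⁻¹ := by
    intro hg x; rw [map_mul, map_mul, map_inv]
  constructor
  · rintro ⟨hg, h⟩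
    refine ⟨hg, (hB _).2 fun t ht => ?_⟩
    obtain ⟨x, rfl⟩ := hs t
    have h1 := h x (coe_mem_up.2 ht)
    have h2 := (coe_mem_up (φ := φ) (T := T) (x := ⟨g, hg⟩ * x * (⟨g, hg⟩ : M0)⁻¹)).1 h1
    rwa [key] at h2
  · rintro ⟨hg, h⟩
    refine ⟨hg, fun s hs' => ?_⟩
    obtain ⟨hsM, hsT⟩ := mem_up.1 hs'
    have h1 := (hB _).1 h _ hsT
    rw [← key] at h1
    exact coe_mem_up.2 h1

open Cfg

section final

variable {Q A : Subgroup G} {z a : G} {J : Type*} {T B' : Subgroup X} {P' : J → Subgroup X} {M : J → J → ℕ}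
  {q : J → ℕ} {φ : M0 →* X}

/-- the level structure -/
theorem lev_of (p : Pair Q z A a) (hLz : ∀ l ∈ M0, l * z = z * l)
    (hLn : ∀ g, g * z = z * g → ∀ l ∈ M0, g * l * g⁻¹ ∈ M0) (hLp : ∀ g, g * z = z * g → ∃ n : ℕ, g ^ 2 ^ n ∈ M0)
    (hQ : Q ≤ M0) (hX : ∀ x ∈ A, x * z = z * x → x ∈ M0) (hs : Function.Surjective φ)
    (hker : ∀ x : M0, φ x = 1 ↔ (x : G) ∈ Q) (h : XSys T B' P' M q)
    (hfix : ∀ x ∈ Q, (∀ s ∈ up φ T, s * x * s⁻¹ = x ∨ s * x * s⁻¹ = x * z) → x = 1 ∨ x = z ∨ x = a ∨ x = a * z) :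
    Lev Q A z a (up φ T) M0 where
  p := p
  L_comm := hLz
  L_norm := hLn
  L_pow := hLp
  Q_le := hQ
  X_le := hX
  S_le := up_le _ _
  S_two := up_two h.two (isPGroup p.lz) fun x hx => (hker x).1 hx
  S_max := up_max hs h.max
  fix := hfix

/-- the group generated by the parabolics is `G0 = ⟨A, L⟩` -/
theorem gen_eq [Finite G] (hs : Function.Surjective φ) (h : XSys T B' P' M q) :
    P0 A (Bo (up φ T) M0) ⊔ ⨆ j, up φ (P' j) = A ⊔ M0 := by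
  have h1 : up φ B' ⊔ ⨆ j, up φ (P' j) = M0 := iSup_up hs h.gen (by
    intro x hx
    rw [MonoidHom.mem_ker] at hx
    show φ x ∈ B'
    rw [hx]; exact one_mem _)
  rw [Bo_up hs h.mem_B]
  show (A ⊔ up φ B') ⊔ _ = _
  rw [sup_assoc, h1]

/-- **THEOREM END** -/
theorem end_sys [Finite G] (p : Pair Q z A a) (hLz : ∀ l ∈ M0, l * z = z * l)
    (hLn : ∀ g, g * z = z * g → ∀ l ∈ M0, g * l * g⁻¹ ∈ M0) (hLp : ∀ g, g * z = z * g → ∃ n : ℕ, g ^ 2 ^ n ∈ M0)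
    (hQ : Q ≤ M0) (hX : ∀ x ∈ A, x * z = z * x → x ∈ M0) (hs : Function.Surjective φ)
    (hker : ∀ x : M0, φ x = 1 ↔ (x : G) ∈ Q) (h : XSys T B' P' M q)
    (hfix : ∀ x ∈ Q, (∀ s ∈ up φ T, s * x * s⁻¹ = x ∨ s * x * s⁻¹ = x * z) → x = 1 ∨ x = z ∨ x = a ∨ x = a * z)
    (hD : ∀ v ∈ Q, v * a = a * v → (∀ x ∈ A, x * z = z * x →
      x * v * x⁻¹ = v ∨ x * v * x⁻¹ = v * z ∨ x * v * x⁻¹ = v * a ∨ x * v * x⁻¹ = v * (a * z)) → v ∈ A)
    {M' : CoxeterMatrix (Option J)} {W : Type*} [Group W] (cs : CoxeterSystem M' W)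
    (hsome : ∀ i j, M' (some i) (some j) = M i j)
    (hnone : ∀ j, (M' none (some j) = 2 ∧ ∀ x ∈ up φ (P' j), x * a * x⁻¹ = a ∨ x * a * x⁻¹ = a * z) ∨
      (M' none (some j) = 3 ∧ q j = 2 ∧ ∃ g ∈ up φ (P' j), g * a * g⁻¹ ≠ a ∧ g * a * g⁻¹ ≠ a * z))
    (htwo : ∀ j, 2 ≤ q j) (hnc : ∃ g ∈ M0, (g * a * g⁻¹) * a ≠ a * (g * a * g⁻¹)) :
    Sys cs ((up φ B').subgroupOf (A ⊔ M0))
      (fun o => (PP (P0 A (up φ B')) (fun j => up φ (P' j)) o).subgroupOf (A ⊔ M0))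
      ((up φ T).subgroupOf (A ⊔ M0)) (qq q) := by
  have e := lev_of p hLz hLn hLp hQ hX hs hker h hfix
  have hBo : Bo (up φ T) M0 = up φ B' := Bo_up hs h.mem_B
  have hBP : ∀ j, Bo (up φ T) M0 ≤ up φ (P' j) := fun j => by rw [hBo]; exact up_mono φ (h.BP j)
  have hTB : T ≤ B' := fun t ht => (h.mem_B t).2 fun s hs => mul_mem (mul_mem ht hs) (inv_mem ht)
  have hmain := sys_sub e.cfg cs (P := fun j => up φ (P' j)) (M := M) (q := q) hBP
    (fun j x hx => hLz x (up_le _ _ hx))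
    (by
      rw [hBo, gp_iff]
      intro i j hij
      exact gpp_of_polygon (fun j => up_mono φ (h.BP j)) (polygon_up hs h.BP (h.pol i j hij)))
    hsome
    (by
      intro j
      rcases hnone j with h1 | ⟨h1, h2, h3⟩
      · exact Or.inl h1
      · refine Or.inr ⟨h1, e.mov (hBP j) (up_le _ _) ?_ h3 hD⟩
        rw [hBo, relIndex_up hs, h.card, h2])
    (by intro j; rw [hBo, relIndex_up hs]; exact h.card j) htwo
    (by
      intro j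
      rw [hBo]
      exact pan_up (U' := T) (h.pan j) le_rfl)
    (gen_eq hs h)
    (by
      obtain ⟨g, hg, h1⟩ := hnc
      exact ⟨g, (le_sup_right : M0 ≤ A ⊔ M0) hg, h1⟩)
  rw [hBo] at hmain
  exact hmain

end final

end Cfsg.Agent.Omega.ThmID
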