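import Mathlib

/-!
# A central 2-subgroup which is split off by a subgroup of odd index

`eq_bot_of_transfer`: `N ≤ Z(X)` a 2-group, `N ∩ D = 1`, `|X : N D|` odd, and the only normal subgroup `W` of `X` which
contains all commutators and all `x` with `x ^ 3 ∈ W` is `X`.  Then `N = 1` (transfer into `N D / D = N`).
-/

set_option autoImplicit false

namespace Cfsg.Agent.Omega.ThmID

open scoped Pointwise in
theorem eq_bot_of_transfer {X : Type*} [Group X] [Finite X] {N D : Subgroup X} (hN : N ≤ Subgroup.center X)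
    (hND : ∀ x ∈ N, x ∈ D → x = 1) (hodd : Odd (N ⊔ D).index) (h2 : IsPGroup 2 N)
    (hperf : ∀ W : Subgroup X, W.Normal → (∀ x y : X, x * y * x⁻¹ * y⁻¹ ∈ W) →
      (∀ x : X, x ^ 3 ∈ W → x ∈ W) → W = ⊤) : N = ⊥ := by
  classical
  have hc : ∀ n ∈ N, ∀ x : X, x * n = n * x := fun n hn x => Subgroup.mem_center_iff.1 (hN hn) x
  let _ : CommGroup N := { (inferInstance : Group N) with
    mul_comm := fun x y => Subtype.ext (hc y y.2 x) }
  have hNn : N.Normal := ⟨fun n hn g => by rw [hc n hn g, mul_inv_cancel_right]; exact hn⟩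
  have hmem : ∀ t ∈ N ⊔ D, ∃ n ∈ N, n⁻¹ * t ∈ D := by
    intro t ht
    have h1 : t ∈ ((N : Set X) * (D : Set X)) := by rw [← Subgroup.normal_mul]; exact ht
    obtain ⟨n, hn, d, hd, rfl⟩ := h1
    exact ⟨n, hn, by rw [inv_mul_cancel_left]; exact hd⟩
  have huniq : ∀ t n n' : X, n ∈ N → n' ∈ N → n⁻¹ * t ∈ D → n'⁻¹ * t ∈ D → n = n' := by
    intro t n n' hn hn' h h'
    have h3 : n'⁻¹ * n ∈ D := by
      have e : n'⁻¹ * n = (n'⁻¹ * t) * (n⁻¹ * t)⁻¹ := by group
      rw [e]; exact mul_mem h' (inv_mem h)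
    have h4 := hND _ (mul_mem (inv_mem hn') hn) h3
    exact (inv_mul_eq_one.1 h4).symm
  choose! f hf1 hf2 using hmem
  let π : (N ⊔ D : Subgroup X) →* N :=
    MonoidHom.mk' (fun t => ⟨f t, hf1 t t.2⟩) (by
      intro s t
      apply Subtype.ext
      show f (s * t) = f s * f t
      refine huniq (s * t) _ _ (hf1 _ (mul_mem s.2 t.2)) (mul_mem (hf1 _ s.2) (hf1 _ t.2)) (hf2 _ (mul_mem s.2 t.2)) ?_
      have h5 := hc _ (hf1 _ t.2)
      have e : (f s * f t)⁻¹ * (s * t) = ((f s)⁻¹ * s) * ((f t)⁻¹ * t) := by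
        rw [mul_inv_rev]
        have h6 : (f (t : X))⁻¹ * ((f (s : X))⁻¹ * (s : X)) = ((f (s : X))⁻¹ * (s : X)) * (f (t : X))⁻¹ := by
          have := h5 ((f (s : X))⁻¹ * (s : X))
          rw [inv_mul_eq_iff_eq_mul, ← mul_assoc, ← this, mul_inv_cancel_right]
        calc (f (t : X))⁻¹ * (f (s : X))⁻¹ * ((s : X) * t) = ((f (t : X))⁻¹ * ((f (s : X))⁻¹ * (s : X))) * t := by group
          _ = ((f (s : X))⁻¹ * (s : X)) * (f (t : X))⁻¹ * t := by rw [h6]
          _ = _ := by group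
      rw [e]
      exact mul_mem (hf2 _ s.2) (hf2 _ t.2))
  have hπ : ∀ (n : X) (hn : n ∈ N) (h : n ∈ N ⊔ D), ((π ⟨n, h⟩ : N) : X) = n := by
    intro n hn h
    exact huniq n _ _ (hf1 _ h) hn (hf2 _ h) (by rw [inv_mul_cancel]; exact one_mem _)
  let V : X →* N := MonoidHom.transfer π
  have hV : ∀ (n : X) (hn : n ∈ N), ((V n : N) : X) = n ^ (N ⊔ D).index := by
    intro n hn
    have key : ∀ (k : ℕ) (g₀ : X), g₀⁻¹ * n ^ k * g₀ ∈ N ⊔ D → g₀⁻¹ * n ^ k * g₀ = n ^ k := by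
      intro k g₀ _
      have := hc _ (pow_mem hn k) g₀
      rw [mul_assoc, ← this, inv_mul_cancel_left]
    have h3 : V n = π ⟨n ^ (N ⊔ D).index, _⟩ := MonoidHom.transfer_eq_pow π n key
    rw [h3]
    exact hπ _ (pow_mem hn _) _
  have hW := hperf V.ker inferInstance
    (by
      intro x y
      rw [MonoidHom.mem_ker, map_mul, map_mul, map_mul, map_inv, map_inv]
      rw [mul_comm (V x) (V y)]
      group)
    (by
      intro x hx
      rw [MonoidHom.mem_ker, map_pow] at hx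
      rw [MonoidHom.mem_ker]
      obtain ⟨k, hk⟩ := h2 (V x)
      have h3 := orderOf_dvd_of_pow_eq_one hx
      have h4 := orderOf_dvd_of_pow_eq_one hk
      have h5 : Nat.Coprime 3 (2 ^ k) := Nat.Coprime.pow_right k (by norm_num)
      have h6 : orderOf (V x) ∣ 1 := by rw [← h5]; exact Nat.dvd_gcd h3 h4
      exact orderOf_eq_one_iff.1 (Nat.dvd_one.1 h6))
  rw [eq_bot_iff]
  intro n hn
  have h3 : V n = 1 := by
    rw [← MonoidHom.mem_ker, hW]; trivial
  have h4 := hV n hn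
  rw [h3] at h4
  have h5 : n ^ (N ⊔ D).index = 1 := h4.symm
  obtain ⟨k, hk⟩ := h2 ⟨n, hn⟩
  have hk' : n ^ 2 ^ k = 1 := congrArg Subtype.val hk
  have h6 := orderOf_dvd_of_pow_eq_one h5
  have h7 := orderOf_dvd_of_pow_eq_one hk'
  have h8 : Nat.Coprime (N ⊔ D).index (2 ^ k) := Nat.Coprime.pow_right k (Nat.coprime_two_right.2 hodd)
  have h9 : orderOf n ∣ 1 := by rw [← h8]; exact Nat.dvd_gcd h6 h7
  rw [Subgroup.mem_bot]
  exact orderOf_eq_one_iff.1 (Nat.dvd_one.1 h9)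

/-- `|C : H| = |K : H ∩ K|` if `C = K H` -/
theorem relIndex_eq_of_cover {X : Type*} [Group X] {H K C : Subgroup X} (hK : K ≤ C)
    (hcov : ∀ c ∈ C, ∃ k ∈ K, k⁻¹ * c ∈ H) : H.relIndex C = H.relIndex K := by
  classical
  symm
  let f : K ⧸ H.subgroupOf K → C ⧸ H.subgroupOf C := Quotient.map' (fun k => ⟨k, hK k.2⟩) (by
    intro x y h
    rw [QuotientGroup.leftRel_apply] at h ⊢
    exact h)
  refine Nat.card_eq_of_bijective f ⟨?_, ?_⟩
  · intro x y
    induction x using QuotientGroup.induction_on with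
    | _ x =>
    induction y using QuotientGroup.induction_on with
    | _ y =>
    intro h
    have h1 : (QuotientGroup.mk (⟨x, hK x.2⟩ : C) : C ⧸ H.subgroupOf C) = QuotientGroup.mk ⟨y, hK y.2⟩ := h
    rw [QuotientGroup.eq] at h1 ⊢
    exact h1
  · intro y
    induction y using QuotientGroup.induction_on with
    | _ y =>
    obtain ⟨k, hk, h⟩ := hcov y y.2
    refine ⟨QuotientGroup.mk ⟨k, hk⟩, ?_⟩
    show (QuotientGroup.mk (⟨k, hK hk⟩ : C) : C ⧸ H.subgroupOf C) = QuotientGroup.mk y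
    rw [QuotientGroup.eq]
    exact h

end Cfsg.Agent.Omega.ThmID
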