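import Cfsg.Agent.Omega.ThmID.Base
import Cfsg.Agent.Omega.ThmID.Transfer

/-!
# THEOREM ID, part 2: the residue of a parabolic of index three which moves the four-group

`Mov`: `B ≤ P ≤ C_G(z)`, `|P : B| = 3`, `P` does not normalise `⟨z, a⟩`, `C_{Q/⟨z⟩}(S) = ⟨a⟩`.  Then `X0 = ⟨P0, P⟩` acts on
`Y = ⟨z, a, a'⟩` as `GL_3(2)` with kernel `K0 ≤ B`, and `X0 / B` is the set of flags of the projective plane of order two:
`X0 = P P0 P = P0 P P0`, and `x b = b' x'` with `x, x' ∈ P0`, `b, b' ∈ P` implies `x ∈ B` or `b ∈ B`.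
-/

set_option autoImplicit false

namespace Cfsg.Agent.Omega.ThmID

open Cfsg.Agent.Co2Type.Quad Cfsg.Agent.LargeExtra.Base

variable {G : Type*} [Group G]

section tools

theorem zmod_two_ne {x : ZMod 2} (h : x ≠ 0) : x = 1 := by revert x; decide

/-- separation of two elements of a large extraspecial group by commutators -/
theorem exists_sep {Q : Subgroup G} {z : G} (h : Large Q z) {x y : G} (hx : x ∈ Q) (hy : y ∈ Q) (h1 : y ≠ 1)
    (h2 : y ≠ z) (h3 : y ≠ x) (h4 : y ≠ x * z) : ∃ q ∈ Q, q * x = x * q ∧ q * y * q⁻¹ = y * z := by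
  by_contra hcon
  have key : ∀ w : h.V, h.b (h.pr ⟨x, hx⟩) w = 0 → h.b (h.pr ⟨y, hy⟩) w = 0 := by
    intro w hw
    obtain ⟨q, rfl⟩ := h.pr_surjective w
    by_contra h5
    have h6 := (h.b_pr _ _).1 hw
    have h7 := (h.b_pr_one _ _).1 (zmod_two_ne h5)
    apply hcon
    refine ⟨q, q.2, h6.symm, ?_⟩
    have h8 : (y : G) * q = q * y * z := h7
    have h9 : (q : G) * y = y * q * z := by
      rw [h8, mul_assoc, h.z_sq, mul_one]
    rw [h9, mul_assoc y (q : G) z, h.comm_z q q.2]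
    group
  have hy0 : h.pr ⟨y, hy⟩ ≠ 0 := by
    intro h5
    rcases h.pr_eq_zero.1 h5 with h6 | h6
    · exact h1 h6
    · exact h2 h6
  have hyx : h.pr ⟨y, hy⟩ ≠ h.pr ⟨x, hx⟩ := by
    intro h5
    rcases h.pr_eq_pr.1 h5 with h6 | h6
    · exact h3 h6
    · exact h4 h6
  by_cases h5 : ∀ w, h.b (h.pr ⟨x, hx⟩) w = 0
  · exact hy0 (h.b_nondeg fun w => key w (h5 w))
  · push Not at h5
    obtain ⟨w0, hw0⟩ := h5
    have hw1 := zmod_two_ne hw0
    by_cases h6 : h.b (h.pr ⟨y, hy⟩) w0 = 0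
    · apply hy0
      apply h.b_nondeg
      intro w
      by_cases h7 : h.b (h.pr ⟨x, hx⟩) w = 0
      · exact key w h7
      · have h8 := zmod_two_ne h7
        have h9 := key (w + w0) (by rw [map_add, h8, hw1]; decide)
        rw [map_add, h6, add_zero] at h9
        exact h9
    · have h6' := zmod_two_ne h6
      apply hyx
      have h10 : h.pr ⟨y, hy⟩ + h.pr ⟨x, hx⟩ = 0 := by
        apply h.b_nondeg
        intro w
        rw [map_add, LinearMap.add_apply]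
        by_cases h7 : h.b (h.pr ⟨x, hx⟩) w = 0
        · rw [h7, key w h7, add_zero]
        · have h8 := zmod_two_ne h7
          have h9 := key (w + w0) (by rw [map_add, h8, hw1]; decide)
          rw [map_add, h6'] at h9
          rw [h8]; exact h9
      have h11 := eq_neg_of_add_eq_zero_left h10
      rw [h11, h.neg_eq]

end tools

/-- `L` is normal in `C_G(z)`, `C_G(z) / L` is a 2-group and `N_L(S) ≤ B`. -/
structure Cap (z : G) (S B L : Subgroup G) : Prop where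
  norm : ∀ g, g * z = z * g → ∀ l ∈ L, g * l * g⁻¹ ∈ L
  pow : ∀ g, g * z = z * g → ∃ n : ℕ, g ^ 2 ^ n ∈ L
  max : ∀ g ∈ L, (∀ s ∈ S, g * s * g⁻¹ ∈ S) → g ∈ B

/-- A parabolic of index three which moves `⟨z, a⟩`. -/
structure Mov (Q A : Subgroup G) (z a : G) (S B P : Subgroup G) : Prop extends Cfg Q A z a S B where
  BP : B ≤ P
  Pz : ∀ x ∈ P, x * z = z * x
  idx : B.relIndex P = 3
  mv : ∃ g ∈ P, g * a * g⁻¹ ≠ a ∧ g * a * g⁻¹ ≠ a * z
  fix : ∀ x ∈ Q, (∀ s ∈ S, s * x * s⁻¹ = x ∨ s * x * s⁻¹ = x * z) → x = 1 ∨ x = z ∨ x = a ∨ x = a * z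
  hD : ∀ v ∈ Q, v * a = a * v → (∀ x ∈ A, x * z = z * x →
    x * v * x⁻¹ = v ∨ x * v * x⁻¹ = v * z ∨ x * v * x⁻¹ = v * a ∨ x * v * x⁻¹ = v * (a * z)) → v ∈ A
  cap : ∃ L : Subgroup G, P ≤ L ∧ Cap z S B L

namespace Mov

open Cfg

variable {Q A S B P : Subgroup G} {z a : G}

/-- the action of `P` on `V` -/
noncomputable def rho (m : Mov Q A z a S B P) : P →* (m.p.lz.V ≃ₗ[ZMod 2] m.p.lz.V) :=
  m.p.lz.act.comp (Subgroup.inclusion fun x hx => Subgroup.mem_centralizer_singleton_iff.2 (m.Pz x hx))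

theorem conj_mem (m : Mov Q A z a S B P) {g : G} (hg : g ∈ P) {x : G} (hx : x ∈ Q) : g * x * g⁻¹ ∈ Q :=
  m.p.lz.conj_mem g (m.Pz g hg) x hx

theorem rho_pr (m : Mov Q A z a S B P) {g : G} (hg : g ∈ P) {x : G} (hx : x ∈ Q) :
    m.rho ⟨g, hg⟩ (m.p.lz.pr ⟨x, hx⟩) = m.p.lz.pr ⟨g * x * g⁻¹, m.conj_mem hg hx⟩ := by
  show m.p.lz.act _ _ = _
  rw [m.p.lz.act_pr]
  rfl

/-- the vector `a` -/
noncomputable def va (m : Mov Q A z a S B P) : m.p.lz.V := m.p.lz.pr ⟨a, m.p.a_mem⟩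

theorem va_eq (m : Mov Q A z a S B P) {x : G} (hx : x ∈ Q) :
    m.p.lz.pr ⟨x, hx⟩ = m.va ↔ x = a ∨ x = a * z := by
  rw [va, m.p.lz.pr_eq_pr]

theorem va_ne (m : Mov Q A z a S B P) : m.va ≠ 0 := by
  intro h
  rcases m.p.lz.pr_eq_zero.1 h with h1 | h1
  · exact m.toCfg.a_ne h1
  · exact m.p.ne h1

theorem rho_va (m : Mov Q A z a S B P) {g : G} (hg : g ∈ P) :
    m.rho ⟨g, hg⟩ m.va = m.va ↔ g * a * g⁻¹ = a ∨ g * a * g⁻¹ = a * z := by
  show m.rho ⟨g, hg⟩ (m.p.lz.pr ⟨a, m.p.a_mem⟩) = m.va ↔ _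
  rw [m.rho_pr hg m.p.a_mem, m.va_eq]

/-- **Step A**: `P ∩ N(⟨z, a⟩) = B` -/
theorem mem_B_of_fix (m : Mov Q A z a S B P) {g : G} (hg : g ∈ P) (h : m.rho ⟨g, hg⟩ m.va = m.va) : g ∈ B := by
  let St : Subgroup G :=
    { carrier := {g | ∃ hg : g ∈ P, m.rho ⟨g, hg⟩ m.va = m.va}
      one_mem' := ⟨one_mem _, by
        have : (⟨1, one_mem _⟩ : P) = 1 := rfl
        rw [this, map_one]; rfl⟩
      mul_mem' := by
        rintro x y ⟨hx, hx1⟩ ⟨hy, hy1⟩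
        refine ⟨mul_mem hx hy, ?_⟩
        have : (⟨x * y, mul_mem hx hy⟩ : P) = ⟨x, hx⟩ * ⟨y, hy⟩ := rfl
        rw [this, map_mul]
        show m.rho ⟨x, hx⟩ (m.rho ⟨y, hy⟩ m.va) = _
        rw [hy1, hx1]
      inv_mem' := by
        rintro x ⟨hx, hx1⟩
        refine ⟨inv_mem hx, ?_⟩
        have : (⟨x⁻¹, inv_mem hx⟩ : P) = (⟨x, hx⟩ : P)⁻¹ := rfl
        rw [this, map_inv]
        show (m.rho ⟨x, hx⟩).symm m.va = m.va
        rw [LinearEquiv.symm_apply_eq, hx1] }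
  have hSt : ∀ g, g ∈ St ↔ ∃ hg : g ∈ P, m.rho ⟨g, hg⟩ m.va = m.va := fun g => Iff.rfl
  have h1 : B ≤ St := by
    intro b hb
    exact ⟨m.BP hb, (m.rho_va (m.BP hb)).2 (m.B_a b hb)⟩
  have h2 : St ≤ P := fun g hg => hg.1
  have h3 := Subgroup.relIndex_mul_relIndex B St P h1 h2
  rw [m.idx] at h3
  have h4 : St.relIndex P ≠ 1 := by
    intro h5
    have h6 := Subgroup.relIndex_eq_one.1 h5
    obtain ⟨g, hg, h7, h8⟩ := m.mv
    obtain ⟨h9, h10⟩ := h6 hg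
    rcases (m.rho_va h9).1 h10 with h11 | h11
    · exact h7 h11
    · exact h8 h11
  have h5 : B.relIndex St = 1 := by
    have h6 : St.relIndex P ∣ 3 := ⟨B.relIndex St, by rw [mul_comm]; exact h3.symm⟩
    rcases (Nat.dvd_prime Nat.prime_three).1 h6 with h7 | h7
    · exact absurd h7 h4
    · rw [h7] at h3; omega
  exact Subgroup.relIndex_eq_one.1 h5 ⟨hg, h⟩

/-- the orbit of `a` -/
def orb (m : Mov Q A z a S B P) : Set m.p.lz.V := Set.range fun x : P => m.rho x m.va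

theorem ncard_orb (m : Mov Q A z a S B P) : m.orb.ncard = 3 := by
  classical
  let f : P ⧸ (B.subgroupOf P) → m.p.lz.V := fun x => m.rho x.out m.va
  have hf : ∀ x : P, f (QuotientGroup.mk x) = m.rho x m.va := by
    intro x
    set y := (QuotientGroup.mk x : P ⧸ (B.subgroupOf P)).out with hy
    have h1 : x⁻¹ * y ∈ B.subgroupOf P := by
      rw [← QuotientGroup.eq, hy, QuotientGroup.out_eq']
    have h2 : ((x⁻¹ * y : P) : G) ∈ B := h1
    have h3 : m.rho (x⁻¹ * y) m.va = m.va := (m.rho_va (x⁻¹ * y).2).2 (m.B_a _ h2)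
    show m.rho y m.va = _
    calc m.rho y m.va = m.rho (x * (x⁻¹ * y)) m.va := by rw [mul_inv_cancel_left]
      _ = m.rho x (m.rho (x⁻¹ * y) m.va) := by rw [map_mul]; rfl
      _ = _ := by rw [h3]
  have hinj : Function.Injective f := by
    intro x y h
    rw [← QuotientGroup.out_eq' x, ← QuotientGroup.out_eq' y] at h ⊢
    rw [hf, hf] at h
    rw [QuotientGroup.eq]
    apply m.mem_B_of_fix (x.out⁻¹ * y.out).2
    show m.rho (x.out⁻¹ * y.out) m.va = m.va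
    rw [map_mul]
    show m.rho (x.out)⁻¹ (m.rho y.out m.va) = m.va
    rw [← h, map_inv]
    exact LinearEquiv.symm_apply_apply _ _
  have hr : m.orb = Set.range f := by
    ext v
    constructor
    · rintro ⟨x, rfl⟩
      exact ⟨QuotientGroup.mk x, hf x⟩
    · rintro ⟨x, rfl⟩
      exact ⟨x.out, rfl⟩
  rw [hr, ← Set.image_univ, Set.ncard_image_of_injective _ hinj, Set.ncard_univ]
  exact m.idx

theorem va_mem_orb (m : Mov Q A z a S B P) : m.va ∈ m.orb := ⟨1, by simp⟩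

theorem rho_mem_orb (m : Mov Q A z a S B P) (x : P) {v : m.p.lz.V} (hv : v ∈ m.orb) : m.rho x v ∈ m.orb := by
  obtain ⟨y, rfl⟩ := hv
  exact ⟨x * y, by
    show m.rho (x * y) m.va = m.rho x (m.rho y m.va)
    rw [map_mul]; rfl⟩

/-- the orbit is `{a, v, a + v}` for any of its elements `v ≠ a` -/
theorem orb_eq (m : Mov Q A z a S B P) {v : m.p.lz.V} (hv : v ∈ m.orb) (hne : v ≠ m.va) :
    m.orb = {m.va, v, m.va + v} := by
  classical
  obtain ⟨x, y, w, hxy, hxw, hyw, hs⟩ := Set.ncard_eq_three.1 m.ncard_orb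
  have hadd := m.p.lz.add_self
  -- the sum is invariant
  have hsum : ∀ g : P, m.rho g (x + y + w) = x + y + w := by
    intro g
    let T : Finset m.p.lz.V := {x, y, w}
    have hT : ∀ v, v ∈ T ↔ v ∈ m.orb := by
      intro v
      rw [hs]
      simp [T]
    have h1 : T.image (m.rho g) = T := by
      apply Finset.eq_of_subset_of_card_le
      · intro v hv
        obtain ⟨u, hu, rfl⟩ := Finset.mem_image.1 hv
        exact (hT _).2 (m.rho_mem_orb g ((hT _).1 hu))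
      · rw [Finset.card_image_of_injective _ (m.rho g).injective]
    have h2 : ∑ v ∈ T, v = x + y + w := by
      simp only [T]
      rw [Finset.sum_insert (by simp [hxy, hxw]), Finset.sum_insert (by simp [hyw]), Finset.sum_singleton,
        add_assoc]
    rw [← h2, map_sum]
    conv_rhs => rw [← h1]
    rw [Finset.sum_image fun _ _ _ _ h => (m.rho g).injective h]
  have h0 : x + y + w = 0 := by
    obtain ⟨⟨u, hu⟩, hu'⟩ := m.p.lz.pr_surjective (x + y + w)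
    have h1 := m.fix u hu (by
      intro s hs
      have hsP := m.BP (m.S_le hs)
      have h2 := hsum ⟨s, hsP⟩
      rw [← hu', m.rho_pr hsP hu] at h2
      exact m.p.lz.pr_eq_pr.1 h2)
    rcases h1 with h1 | h1 | h1
    · rw [← hu']; exact m.p.lz.pr_eq_zero.2 (Or.inl h1)
    · rw [← hu']; exact m.p.lz.pr_eq_zero.2 (Or.inr h1)
    · exfalso
      have h3 := (m.va_eq hu).2 h1
      rw [hu'] at h3
      obtain ⟨g, hg, h7, h8⟩ := m.mv
      have h4 := hsum ⟨g, hg⟩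
      rw [h3] at h4
      rcases (m.rho_va hg).1 h4 with h9 | h9
      · exact h7 h9
      · exact h8 h9
  have hw : ∀ p q r : m.p.lz.V, p + q + r = 0 → r = p + q := by
    intro p q r h
    have := eq_neg_of_add_eq_zero_right h
    rw [this, m.p.lz.neg_eq]
  have hva := m.va_mem_orb
  rw [hs] at hv hva ⊢
  have e1 : w = x + y := hw x y w h0
  have e2 : y = x + w := hw x w y (by rw [← h0]; abel)
  have e3 : x = y + w := hw y w x (by rw [← h0]; abel)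
  simp only [Set.mem_insert_iff, Set.mem_singleton_iff] at hv hva
  rcases hva with h1 | h1 | h1 <;> rcases hv with h2 | h2 | h2 <;>
    first
      | exact absurd (h2.trans h1.symm) hne
      | (rw [h1, h2]
         ext u
         simp only [Set.mem_insert_iff, Set.mem_singleton_iff]
         first
           | (rw [← e1])
           | (rw [← e2]; tauto)
           | (rw [add_comm y x, ← e1]; tauto)
           | (rw [← e3]; tauto)
           | (rw [add_comm w x, ← e2]; tauto)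
           | (rw [add_comm w y, ← e3]; tauto))

theorem eq_of_mul_self {x y : G} (hx : x * x = 1) (hy : y * y = 1) (h : (x * y) * (x * y) = 1) : x * y = y * x := by
  have h1 : x⁻¹ = x := inv_eq_of_mul_eq_one_left hx
  have h2 : y⁻¹ = y := inv_eq_of_mul_eq_one_left hy
  have h3 := eq_inv_of_mul_eq_one_left h
  rw [mul_inv_rev, h1, h2] at h3
  exact h3

theorem sq_of_orb (m : Mov Q A z a S B P) {x : G} (hx : x ∈ Q) (h : m.p.lz.pr ⟨x, hx⟩ ∈ m.orb) : x * x = 1 := by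
  obtain ⟨⟨g, hg⟩, hg'⟩ := h
  have h1 : m.rho ⟨g, hg⟩ (m.p.lz.pr ⟨a, m.p.a_mem⟩) = m.p.lz.pr ⟨x, hx⟩ := hg'
  rw [m.rho_pr hg m.p.a_mem, m.p.lz.pr_eq_pr] at h1
  have h2 : (g * a * g⁻¹) * (g * a * g⁻¹) = 1 := by
    calc (g * a * g⁻¹) * (g * a * g⁻¹) = g * (a * a) * g⁻¹ := by group
      _ = 1 := by rw [m.toCfg.aa]; group
  rcases h1 with h1 | h1
  · have h1' : g * a * g⁻¹ = x := h1
    rw [← h1']; exact h2
  · have h1' : g * a * g⁻¹ = x * z := h1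
    have h3 := m.p.lz.comm_z x hx
    rw [h1'] at h2
    calc x * x = x * x * (z * z) := by rw [m.toCfg.zz, mul_one]
      _ = x * (x * z) * z := by group
      _ = x * (z * x) * z := by rw [h3]
      _ = (x * z) * (x * z) := by group
      _ = 1 := h2

theorem comm_a_of_orb (m : Mov Q A z a S B P) {x : G} (hx : x ∈ Q) (h : m.p.lz.pr ⟨x, hx⟩ ∈ m.orb) :
    x * a = a * x := by
  by_cases h1 : m.p.lz.pr ⟨x, hx⟩ = m.va
  · rcases (m.va_eq hx).1 h1 with h2 | h2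
    · rw [h2]
    · rw [h2, mul_assoc, ← m.toCfg.comm_az]
  · have h2 : m.p.lz.pr ⟨a * x, mul_mem m.p.a_mem hx⟩ ∈ m.orb := by
      have : m.p.lz.pr ⟨a * x, mul_mem m.p.a_mem hx⟩ = m.va + m.p.lz.pr ⟨x, hx⟩ :=
        m.p.lz.pr_mul ⟨a, m.p.a_mem⟩ ⟨x, hx⟩
      rw [this, m.orb_eq h h1]
      simp
    exact (eq_of_mul_self m.toCfg.aa (m.sq_of_orb hx h) (m.sq_of_orb _ h2)).symm

theorem mem_A_of_orb (m : Mov Q A z a S B P) {x : G} (hx : x ∈ Q) (h : m.p.lz.pr ⟨x, hx⟩ ∈ m.orb) : x ∈ A := by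
  by_cases h1 : m.p.lz.pr ⟨x, hx⟩ = m.va
  · rcases (m.va_eq hx).1 h1 with h2 | h2
    · rw [h2]; exact m.p.la.z_mem
    · rw [h2]; exact mul_mem m.p.la.z_mem m.p.z_mem
  · apply m.hD x hx (m.comm_a_of_orb hx h)
    intro y hy hyz
    have hyP : y ∈ P := m.BP (m.toCfg.X_mem_B hy hyz)
    have hya := m.p.la.comm_z y hy
    have h2 : m.rho ⟨y, hyP⟩ m.va = m.va := (m.rho_va hyP).2 (Or.inl (by rw [hya]; group))
    have h3 := m.rho_mem_orb ⟨y, hyP⟩ h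
    have hxa : m.p.lz.pr ⟨a * x, mul_mem m.p.a_mem hx⟩ = m.va + m.p.lz.pr ⟨x, hx⟩ :=
        m.p.lz.pr_mul ⟨a, m.p.a_mem⟩ ⟨x, hx⟩
    rw [m.orb_eq h h1] at h3
    simp only [Set.mem_insert_iff, Set.mem_singleton_iff] at h3
    rcases h3 with h3 | h3 | h3
    · exfalso
      apply h1
      apply (m.rho ⟨y, hyP⟩).injective
      rw [h3, h2]
    · rw [m.rho_pr hyP hx, m.p.lz.pr_eq_pr] at h3
      rcases h3 with h3 | h3
      · exact Or.inl h3
      · exact Or.inr (Or.inl h3)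
    · rw [m.rho_pr hyP hx, ← hxa, m.p.lz.pr_eq_pr] at h3
      rcases h3 with h3 | h3
      · right; right; left
        rw [m.comm_a_of_orb hx h]; exact h3
      · right; right; right
        rw [← mul_assoc, m.comm_a_of_orb hx h]; exact h3

/-- the group `Y`, of order 8 -/
def Y (m : Mov Q A z a S B P) : Subgroup G where
  carrier := {x | ∃ hx : x ∈ Q, m.p.lz.pr ⟨x, hx⟩ = 0 ∨ m.p.lz.pr ⟨x, hx⟩ ∈ m.orb}
  one_mem' := ⟨one_mem _, Or.inl m.p.lz.pr_one⟩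
  mul_mem' := by
    rintro x y ⟨hx, hx'⟩ ⟨hy, hy'⟩
    refine ⟨mul_mem hx hy, ?_⟩
    have e : m.p.lz.pr ⟨x * y, mul_mem hx hy⟩ = m.p.lz.pr ⟨x, hx⟩ + m.p.lz.pr ⟨y, hy⟩ :=
      m.p.lz.pr_mul ⟨x, hx⟩ ⟨y, hy⟩
    rw [e]
    rcases hx' with h1 | h1
    · rw [h1, zero_add]; exact hy'
    · rcases hy' with h2 | h2
      · rw [h2, add_zero]; exact Or.inr h1
      · by_cases h3 : m.p.lz.pr ⟨x, hx⟩ = m.va
        · by_cases h4 : m.p.lz.pr ⟨y, hy⟩ = m.va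
          · left; rw [h3, h4]; exact m.p.lz.add_self _
          · right
            rw [m.orb_eq h2 h4, h3]; simp
        · have h5 := m.orb_eq h1 h3
          have h6 := h2
          rw [h5] at h6
          simp only [Set.mem_insert_iff, Set.mem_singleton_iff] at h6
          rcases h6 with h6 | h6 | h6
          · right; rw [h6, add_comm, h5]; simp
          · left; rw [h6]; exact m.p.lz.add_self _
          · right
            rw [h6, add_comm m.va, ← add_assoc, m.p.lz.add_self, zero_add]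
            exact m.va_mem_orb
  inv_mem' := by
    rintro x ⟨hx, hx'⟩
    refine ⟨inv_mem hx, ?_⟩
    have e : m.p.lz.pr ⟨x⁻¹, inv_mem hx⟩ = m.p.lz.pr ⟨x, hx⟩ := by
      have := m.p.lz.pr_inv ⟨x, hx⟩
      rw [m.p.lz.neg_eq] at this
      exact this
    rw [e]; exact hx'

theorem mem_Y (m : Mov Q A z a S B P) {x : G} : x ∈ m.Y ↔
    ∃ hx : x ∈ Q, m.p.lz.pr ⟨x, hx⟩ = 0 ∨ m.p.lz.pr ⟨x, hx⟩ ∈ m.orb := Iff.rfl

theorem z_mem_Y (m : Mov Q A z a S B P) : z ∈ m.Y := ⟨m.p.lz.z_mem, Or.inl (m.p.lz.pr_eq_zero.2 (Or.inr rfl))⟩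

theorem a_mem_Y (m : Mov Q A z a S B P) : a ∈ m.Y := ⟨m.p.a_mem, Or.inr m.va_mem_orb⟩

theorem Y_le_Q (m : Mov Q A z a S B P) : m.Y ≤ Q := fun _ h => h.1

theorem Y_le_A (m : Mov Q A z a S B P) : m.Y ≤ A := by
  rintro x ⟨hx, h | h⟩
  · rcases m.p.lz.pr_eq_zero.1 h with h1 | h1
    · have h1' : x = 1 := h1
      rw [h1']; exact one_mem _
    · have h1' : x = z := h1
      rw [h1']; exact m.p.z_mem
  · exact m.mem_A_of_orb hx h

theorem comm_Y (m : Mov Q A z a S B P) {x y : G} (hx : x ∈ m.Y) (hy : y ∈ m.Y) : x * y = y * x :=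
  m.p.comm_D (m.Y_le_Q hx) (m.Y_le_A hx) (m.Y_le_Q hy) (m.Y_le_A hy)

theorem conj_Y_P (m : Mov Q A z a S B P) {g : G} (hg : g ∈ P) {y : G} (hy : y ∈ m.Y) : g * y * g⁻¹ ∈ m.Y := by
  obtain ⟨h1, h2⟩ := hy
  refine ⟨m.conj_mem hg h1, ?_⟩
  rw [← m.rho_pr hg h1]
  rcases h2 with h2 | h2
  · left; rw [h2, map_zero]
  · right; exact m.rho_mem_orb _ h2

theorem conj_Y_A (m : Mov Q A z a S B P) {g : G} (hg : g ∈ A) {y : G} (hy : y ∈ m.Y) : g * y * g⁻¹ ∈ m.Y := by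
  rcases m.p.conj_D (m.Y_le_A hy) hg with h | h
  · rw [h]; exact hy
  · rw [h]; exact mul_mem hy m.a_mem_Y

/-- the group `X0` -/
def X0 (_ : Mov Q A z a S B P) : Subgroup G := A ⊔ P

theorem P0_le (m : Mov Q A z a S B P) : P0 A B ≤ m.X0 := sup_le_sup_left m.BP A

theorem P_le (m : Mov Q A z a S B P) : P ≤ m.X0 := le_sup_right

theorem A_le_X0 (m : Mov Q A z a S B P) : A ≤ m.X0 := le_sup_left

theorem X0_eq (m : Mov Q A z a S B P) : m.X0 = P0 A B ⊔ P := by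
  show A ⊔ P = (A ⊔ B) ⊔ P
  rw [sup_assoc, sup_eq_right.2 m.BP]

/-- a property of conjugations which holds for `A` and `P` holds for `X0` -/
theorem X0_le_normalizer (m : Mov Q A z a S B P) {N : Subgroup G} (h1 : ∀ g ∈ A, ∀ x ∈ N, g * x * g⁻¹ ∈ N)
    (h2 : ∀ g ∈ P, ∀ x ∈ N, g * x * g⁻¹ ∈ N) {g : G} (hg : g ∈ m.X0) {x : G} (hx : x ∈ N) :
    g * x * g⁻¹ ∈ N := by
  have key : ∀ H : Subgroup G, (∀ g ∈ H, ∀ x ∈ N, g * x * g⁻¹ ∈ N) → H ≤ Subgroup.normalizer (N : Set G) := by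
    intro H hH g hg
    rw [Subgroup.mem_normalizer_iff]
    intro y
    constructor
    · exact hH g hg y
    · intro hy
      have h3 := hH _ (inv_mem hg) _ hy
      have e : g⁻¹ * (g * y * g⁻¹) * g⁻¹⁻¹ = y := by group
      rwa [e] at h3
  have h3 : m.X0 ≤ Subgroup.normalizer (N : Set G) := sup_le (key A h1) (key P h2)
  exact (Subgroup.mem_normalizer_iff.1 (h3 hg) x).1 hx

theorem conj_Y (m : Mov Q A z a S B P) {g : G} (hg : g ∈ m.X0) {y : G} (hy : y ∈ m.Y) : g * y * g⁻¹ ∈ m.Y :=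
  m.X0_le_normalizer (fun _ h1 _ h2 => m.conj_Y_A h1 h2) (fun _ h1 _ h2 => m.conj_Y_P h1 h2) hg hy

/-- the kernel of the action on `Y` -/
def K0 (m : Mov Q A z a S B P) : Subgroup G := m.X0 ⊓ Subgroup.centralizer (m.Y : Set G)

theorem mem_K0 (m : Mov Q A z a S B P) {k : G} : k ∈ m.K0 ↔ k ∈ m.X0 ∧ ∀ y ∈ m.Y, k * y = y * k := by
  constructor
  · rintro ⟨h1, h2⟩
    exact ⟨h1, fun y hy => (Subgroup.mem_centralizer_iff.1 h2 y hy).symm⟩
  · rintro ⟨h1, h2⟩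
    exact ⟨h1, Subgroup.mem_centralizer_iff.2 fun y hy => (h2 y hy).symm⟩

theorem conj_K0 (m : Mov Q A z a S B P) {g : G} (hg : g ∈ m.X0) {k : G} (hk : k ∈ m.K0) : g * k * g⁻¹ ∈ m.K0 := by
  rw [mem_K0] at hk ⊢
  refine ⟨mul_mem (mul_mem hg hk.1) (inv_mem hg), fun y hy => ?_⟩
  have h1 := m.conj_Y (inv_mem hg) hy
  rw [inv_inv] at h1
  have h2 := hk.2 _ h1
  calc g * k * g⁻¹ * y = g * (k * (g⁻¹ * y * g)) * g⁻¹ := by group
    _ = g * ((g⁻¹ * y * g) * k) * g⁻¹ := by rw [h2]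
    _ = y * (g * k * g⁻¹) := by group

theorem K0_comm_z (m : Mov Q A z a S B P) {k : G} (hk : k ∈ m.K0) : k * z = z * k := (m.mem_K0.1 hk).2 z m.z_mem_Y

theorem K0_comm_a (m : Mov Q A z a S B P) {k : G} (hk : k ∈ m.K0) : k * a = a * k := (m.mem_K0.1 hk).2 a m.a_mem_Y

/-- `K0 ∩ P ≤ B` -/
theorem K0_inf_P (m : Mov Q A z a S B P) {k : G} (hk : k ∈ m.K0) (hP : k ∈ P) : k ∈ B :=
  m.mem_B_of_fix hP ((m.rho_va hP).2 (Or.inl (by rw [m.K0_comm_a hk]; group)))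

/-- `K0 ∩ P0 ≤ B` -/
theorem K0_inf_P0 (m : Mov Q A z a S B P) {k : G} (hk : k ∈ m.K0) (hP : k ∈ P0 A B) : k ∈ B :=
  m.toCfg.mem_B_of hP (m.K0_comm_z hk)

/-- `K0 ∩ B` is normal in `X0` -/
theorem conj_KB (m : Mov Q A z a S B P) {g : G} (hg : g ∈ m.X0) {k : G} (hk : k ∈ m.K0 ⊓ B) :
    g * k * g⁻¹ ∈ m.K0 ⊓ B := by
  refine m.X0_le_normalizer (N := m.K0 ⊓ B) ?_ ?_ hg hk
  · intro g hg k hk
    have h1 := m.conj_K0 (m.A_le_X0 hg) hk.1
    exact ⟨h1, m.K0_inf_P0 h1 (mul_mem (mul_mem (A_le hg) (B_le hk.2)) (inv_mem (A_le hg)))⟩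
  · intro g hg k hk
    have h1 := m.conj_K0 (m.P_le hg) hk.1
    exact ⟨h1, m.K0_inf_P h1 (mul_mem (mul_mem hg (m.BP hk.2)) (inv_mem hg))⟩

/-- the kernel `N` of the action of `X0` on `K0 / (K0 ∩ B)` -/
def NN (m : Mov Q A z a S B P) : Subgroup G where
  carrier := {g | g ∈ m.X0 ∧ ∀ k ∈ m.K0, g * k * g⁻¹ * k⁻¹ ∈ m.K0 ⊓ B}
  one_mem' := ⟨one_mem _, fun k _ => by
    have : (1 : G) * k * (1 : G)⁻¹ * k⁻¹ = 1 := by group
    rw [this]; exact one_mem _⟩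
  mul_mem' := by
    rintro x y ⟨hx, hx'⟩ ⟨hy, hy'⟩
    refine ⟨mul_mem hx hy, fun k hk => ?_⟩
    have h1 := m.conj_KB hx (hy' k hk)
    have e : x * y * k * (x * y)⁻¹ * k⁻¹ = (x * (y * k * y⁻¹ * k⁻¹) * x⁻¹) * (x * k * x⁻¹ * k⁻¹) := by group
    rw [e]; exact mul_mem h1 (hx' k hk)
  inv_mem' := by
    rintro x ⟨hx, hx'⟩
    refine ⟨inv_mem hx, fun k hk => ?_⟩
    have h1 := m.conj_KB (inv_mem hx) (inv_mem (hx' k hk))
    have e : x⁻¹ * (x * k * x⁻¹ * k⁻¹)⁻¹ * x⁻¹⁻¹ = x⁻¹ * k * x⁻¹⁻¹ * k⁻¹ := by group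
    rwa [e] at h1

theorem mem_NN (m : Mov Q A z a S B P) {g : G} : g ∈ m.NN ↔
    g ∈ m.X0 ∧ ∀ k ∈ m.K0, g * k * g⁻¹ * k⁻¹ ∈ m.K0 ⊓ B := Iff.rfl

theorem conj_NN (m : Mov Q A z a S B P) {g : G} (hg : g ∈ m.X0) {x : G} (hx : x ∈ m.NN) : g * x * g⁻¹ ∈ m.NN := by
  rw [mem_NN] at hx ⊢
  refine ⟨mul_mem (mul_mem hg hx.1) (inv_mem hg), fun k hk => ?_⟩
  have h1 := m.conj_K0 (inv_mem hg) hk
  rw [inv_inv] at h1
  have h2 := m.conj_KB hg (hx.2 _ h1)
  have e : g * (x * (g⁻¹ * k * g) * x⁻¹ * (g⁻¹ * k * g)⁻¹) * g⁻¹ = g * x * g⁻¹ * k * (g * x * g⁻¹)⁻¹ * k⁻¹ := by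
    group
  rwa [e] at h2

theorem Q_le_NN (m : Mov Q A z a S B P) : Q ≤ m.NN := by
  intro q hq
  have hqB := m.toCfg.Q_le_B hq
  rw [mem_NN]
  refine ⟨m.P_le (m.BP hqB), fun k hk =>
    ⟨m.K0.mul_mem (m.conj_K0 (m.P_le (m.BP hqB)) hk) (m.K0.inv_mem hk), ?_⟩⟩
  have h1 := m.toCfg.conj_Q (m.K0_comm_z hk) (inv_mem hq)
  have e : q * k * q⁻¹ * k⁻¹ = q * (k * q⁻¹ * k⁻¹) := by group
  rw [e]
  exact mul_mem hqB (m.toCfg.Q_le_B h1)

theorem A_le_NN (m : Mov Q A z a S B P) : A ≤ m.NN := by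
  intro x hx
  rw [mem_NN]
  refine ⟨m.A_le_X0 hx, fun k hk => ?_⟩
  have h0 : x * k * x⁻¹ * k⁻¹ ∈ m.K0 := m.K0.mul_mem (m.conj_K0 (m.A_le_X0 hx) hk) (m.K0.inv_mem hk)
  have h1 := m.toCfg.conj_A (m.K0_comm_a hk) (inv_mem hx)
  have e : x * k * x⁻¹ * k⁻¹ = x * (k * x⁻¹ * k⁻¹) := by group
  have h2 : x * k * x⁻¹ * k⁻¹ ∈ A := by rw [e]; exact mul_mem hx h1
  exact ⟨h0, m.toCfg.X_mem_B h2 (m.K0_comm_z h0)⟩

theorem KB_le_NN (m : Mov Q A z a S B P) : m.K0 ⊓ B ≤ m.NN := by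
  intro x hx
  rw [mem_NN]
  refine ⟨(m.mem_K0.1 hx.1).1, fun k hk => ?_⟩
  have h1 := m.conj_KB (m.mem_K0.1 hk).1 (inv_mem hx)
  have e : x * k * x⁻¹ * k⁻¹ = x * (k * x⁻¹ * k⁻¹) := by group
  rw [e]
  exact mul_mem hx h1

theorem orb_ne_zero (m : Mov Q A z a S B P) {v : m.p.lz.V} (hv : v ∈ m.orb) : v ≠ 0 := by
  rintro rfl
  obtain ⟨g, hg⟩ := hv
  exact m.va_ne ((m.rho g).injective (by rw [map_zero]; exact hg))

/-- the elements of `Y` with a given image -/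
theorem cases_Y (m : Mov Q A z a S B P) {v : G} (hv : v ∈ Q) (hv1 : m.p.lz.pr ⟨v, hv⟩ ∈ m.orb)
    (hv2 : m.p.lz.pr ⟨v, hv⟩ ≠ m.va) {y : G} (hy : y ∈ m.Y) :
    ((y = 1 ∨ y = z) ∨ (y = a ∨ y = a * z)) ∨ ((y = v ∨ y = v * z) ∨ (y = a * v ∨ y = a * v * z)) := by
  obtain ⟨h1, h2 | h2⟩ := hy
  · left; left; exact m.p.lz.pr_eq_zero.1 h2
  · rw [m.orb_eq hv1 hv2] at h2
    simp only [Set.mem_insert_iff, Set.mem_singleton_iff] at h2
    rcases h2 with h2 | h2 | h2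
    · left; right; exact (m.va_eq h1).1 h2
    · right; left; exact m.p.lz.pr_eq_pr.1 h2
    · right; right
      have e : m.p.lz.pr ⟨a * v, mul_mem m.p.a_mem hv⟩ = m.va + m.p.lz.pr ⟨v, hv⟩ :=
        m.p.lz.pr_mul ⟨a, m.p.a_mem⟩ ⟨v, hv⟩
      rw [← e] at h2
      exact m.p.lz.pr_eq_pr.1 h2

/-- the group `Q C_A(z)` is contained in `N` -/
theorem U_le_NN (m : Mov Q A z a S B P) : (A ⊓ Subgroup.centralizer {z} ⊔ Q : Subgroup G) ≤ m.NN :=
  sup_le (inf_le_left.trans m.A_le_NN) m.Q_le_NN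

theorem U_le_X0 (m : Mov Q A z a S B P) : (A ⊓ Subgroup.centralizer {z} ⊔ Q : Subgroup G) ≤ m.X0 :=
  fun _ h => m.P_le (m.BP (m.S_le (m.toCfg.QX_le_S h)))

/-- an element which stabilises the flag acts on `Y` as an element of `Q C_A(z)` -/
theorem exists_split (m : Mov Q A z a S B P) {g : G} (hg : g ∈ m.X0) (hz : g * z = z * g)
    (ha : g * a * g⁻¹ = a ∨ g * a * g⁻¹ = a * z) :
    ∃ l ∈ (A ⊓ Subgroup.centralizer {z} ⊔ Q : Subgroup G), l⁻¹ * g ∈ m.K0 := by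
  set U : Subgroup G := A ⊓ Subgroup.centralizer {z} ⊔ Q with hU
  obtain ⟨g0, hg0, hm1, hm2⟩ := m.mv
  obtain ⟨v, hvdef⟩ : ∃ v, v = g0 * a * g0⁻¹ := ⟨_, rfl⟩
  have hv : v ∈ Q := by rw [hvdef]; exact m.conj_mem hg0 m.p.a_mem
  have hv1 : m.p.lz.pr ⟨v, hv⟩ ∈ m.orb := by
    refine ⟨⟨g0, hg0⟩, ?_⟩
    show m.rho ⟨g0, hg0⟩ (m.p.lz.pr ⟨a, m.p.a_mem⟩) = _
    rw [m.rho_pr hg0 m.p.a_mem]
    congr 1
    exact Subtype.ext hvdef.symm
  have hva : v ≠ a := by rw [hvdef]; exact hm1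
  have hvaz : v ≠ a * z := by rw [hvdef]; exact hm2
  have hv2 : m.p.lz.pr ⟨v, hv⟩ ≠ m.va := by
    intro h
    rcases (m.va_eq hv).1 h with h1 | h1
    · exact hva h1
    · exact hvaz h1
  have hv0 := m.orb_ne_zero hv1
  have hvn1 : v ≠ 1 := fun h => hv0 (m.p.lz.pr_eq_zero.2 (Or.inl h))
  have hvnz : v ≠ z := fun h => hv0 (m.p.lz.pr_eq_zero.2 (Or.inr h))
  have hvY : v ∈ m.Y := ⟨hv, Or.inr hv1⟩
  have hvA : v ∈ A := m.Y_le_A hvY
  have hvz := m.p.lz.comm_z v hv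
  have hvca := m.comm_a_of_orb hv hv1
  -- commuting with `z`, `a`, `v`
  have hK : ∀ k ∈ m.X0, k * z = z * k → k * a = a * k → k * v = v * k → k ∈ m.K0 := by
    intro k hk h1 h2 h3
    rw [mem_K0]
    refine ⟨hk, fun y hy => ?_⟩
    have h4 : k * (a * v) = a * v * k := by rw [← mul_assoc, h2, mul_assoc, h3, ← mul_assoc]
    have h5 : ∀ w : G, k * w = w * k → k * (w * z) = w * z * k := by
      intro w hw
      rw [← mul_assoc, hw, mul_assoc, h1, ← mul_assoc]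
    rcases m.cases_Y hv hv1 hv2 hy with ((h | h) | (h | h)) | ((h | h) | (h | h)) <;> rw [h]
    · rw [mul_one, one_mul]
    · exact h1
    · exact h2
    · exact h5 _ h2
    · exact h3
    · exact h5 _ h3
    · exact h4
    · exact h5 _ h4
  have hmul : ∀ l ∈ U, ∀ g ∈ m.X0, (∃ l' ∈ U, l'⁻¹ * (l⁻¹ * g) ∈ m.K0) → ∃ l' ∈ U, l'⁻¹ * g ∈ m.K0 := by
    rintro l hl g hg ⟨l', hl', h⟩
    refine ⟨l * l', mul_mem hl hl', ?_⟩
    have e : (l * l')⁻¹ * g = l'⁻¹ * (l⁻¹ * g) := by group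
    rw [e]; exact h
  have hcz : ∀ l g : G, l * z = z * l → g * z = z * g → (l⁻¹ * g) * z = z * (l⁻¹ * g) := by
    intro l g h1 h2
    rw [mul_assoc, h2, ← mul_assoc, comm_inv_of h1, mul_assoc]
  -- step 3
  have s3 : ∀ g ∈ m.X0, g * z = z * g → g * a * g⁻¹ = a → (g * v * g⁻¹ = v ∨ g * v * g⁻¹ = v * z) →
      ∃ l ∈ U, l⁻¹ * g ∈ m.K0 := by
    rintro g hg h1 h2 (h3 | h3)
    · refine ⟨1, one_mem _, ?_⟩
      rw [inv_one, one_mul]
      exact hK g hg h1 (by rw [← mul_inv_eq_iff_eq_mul]; exact h2) (by rw [← mul_inv_eq_iff_eq_mul]; exact h3)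
    · obtain ⟨q, hq, hqa, hqv⟩ := exists_sep m.p.lz m.p.a_mem hv hvn1 hvnz hva hvaz
      have hqU : q ∈ U := (le_sup_right : _ ≤ U) hq
      refine ⟨q, hqU, ?_⟩
      apply hK _ (mul_mem (inv_mem (m.U_le_X0 hqU)) hg) (hcz q g (m.p.lz.comm_z q hq) h1)
      · rw [← mul_inv_eq_iff_eq_mul]
        calc q⁻¹ * g * a * (q⁻¹ * g)⁻¹ = q⁻¹ * (g * a * g⁻¹) * q := by group
          _ = q⁻¹ * (a * q) := by rw [h2, mul_assoc]
          _ = a := by rw [← hqa]; group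
      · rw [← mul_inv_eq_iff_eq_mul]
        calc q⁻¹ * g * v * (q⁻¹ * g)⁻¹ = q⁻¹ * (g * v * g⁻¹) * q := by group
          _ = q⁻¹ * (q * v * q⁻¹) * q := by rw [h3, hqv]
          _ = v := by group
  -- step 2
  have s2 : ∀ g ∈ m.X0, g * z = z * g → (g * a * g⁻¹ = a ∨ g * a * g⁻¹ = a * z) →
      (g * v * g⁻¹ = v ∨ g * v * g⁻¹ = v * z) → ∃ l ∈ U, l⁻¹ * g ∈ m.K0 := by
    rintro g hg h1 (h2 | h2) h3
    · exact s3 g hg h1 h2 h3
    · obtain ⟨q, hq, hqv, hqa⟩ := exists_sep m.p.lz hv m.p.a_mem m.toCfg.a_ne m.p.ne (Ne.symm hva) (by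
        intro h
        apply hvaz
        rw [h, mul_assoc, m.toCfg.zz, mul_one])
      have hqU : q ∈ U := (le_sup_right : _ ≤ U) hq
      have hqz := m.p.lz.comm_z q hq
      apply hmul q hqU g hg
      apply s3 _ (mul_mem (inv_mem (m.U_le_X0 hqU)) hg) (hcz q g hqz h1)
      · calc q⁻¹ * g * a * (q⁻¹ * g)⁻¹ = q⁻¹ * (g * a * g⁻¹) * q := by group
          _ = q⁻¹ * (q * a * q⁻¹) * q := by rw [h2, hqa]
          _ = a := by group
      · have e : q⁻¹ * g * v * (q⁻¹ * g)⁻¹ = q⁻¹ * (g * v * g⁻¹) * q := by group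
        rw [e]
        rcases h3 with h3 | h3
        · left
          rw [h3, mul_assoc, ← hqv]; group
        · right
          rw [h3]
          calc q⁻¹ * (v * z) * q = q⁻¹ * v * (z * q) := by group
            _ = q⁻¹ * (v * q) * z := by rw [← hqz]; group
            _ = q⁻¹ * (q * v) * z := by rw [hqv]
            _ = v * z := by group
  -- step 1
  rcases m.cases_Y hv hv1 hv2 (m.conj_Y hg hvY) with ((h | h) | (h | h)) | (h | (h | h))
  · exfalso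
    apply hvn1
    calc v = g⁻¹ * (g * v * g⁻¹) * g := by group
      _ = 1 := by rw [h]; group
  · exfalso
    apply hvnz
    calc v = g⁻¹ * (g * v * g⁻¹) * g := by group
      _ = g⁻¹ * (z * g) := by rw [h]; group
      _ = z := by rw [← hz]; group
  · exfalso
    have h1 : v = g⁻¹ * a * g := by rw [← h]; group
    rcases ha with h2 | h2
    · apply hva
      calc v = g⁻¹ * (g * a * g⁻¹) * g := by rw [h2, h1]
        _ = a := by group
    · apply hvaz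
      have h3 : g * (a * z) * g⁻¹ = a := m.toCfg.conj_az_of hz h2
      calc v = g⁻¹ * (g * (a * z) * g⁻¹) * g := by rw [h3, h1]
        _ = a * z := by group
  · exfalso
    have h1 : v = g⁻¹ * (a * z) * g := by rw [← h]; group
    rcases ha with h2 | h2
    · apply hvaz
      have h3 : g * (a * z) * g⁻¹ = a * z := by
        calc g * (a * z) * g⁻¹ = (g * a * g⁻¹) * ((g * z) * g⁻¹) := by group
          _ = a * z := by rw [h2, hz]; group
      calc v = g⁻¹ * (g * (a * z) * g⁻¹) * g := by rw [h3, h1]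
        _ = a * z := by group
    · apply hva
      calc v = g⁻¹ * (g * a * g⁻¹) * g := by rw [h2, h1]
        _ = a := by group
  · exact s2 g hg hz ha h
  all_goals
    obtain ⟨x, hx, hxz, hxv⟩ := exists_sep m.p.la m.p.z_mem hvA hvn1 hva hvnz (by
        intro h'
        apply hvaz
        rw [h', m.toCfg.comm_az])
    have hxU : x ∈ U := (le_sup_left : _ ≤ U) ⟨hx, Subgroup.mem_centralizer_singleton_iff.2 hxz⟩
    have hxa := m.p.la.comm_z x hx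
    have hx3 : x⁻¹ * (a * v) * x = v := by
      rw [← hvca, ← hxv]; group
    apply hmul x hxU g hg
    apply s2 _ (mul_mem (inv_mem (m.U_le_X0 hxU)) hg) (hcz x g hxz hz)
    · have e : x⁻¹ * g * a * (x⁻¹ * g)⁻¹ = x⁻¹ * (g * a * g⁻¹) * x := by group
      rw [e]
      rcases ha with h2 | h2
      · left
        rw [h2, mul_assoc, ← hxa]; group
      · right
        rw [h2]
        calc x⁻¹ * (a * z) * x = x⁻¹ * a * (z * x) := by group
          _ = x⁻¹ * (a * x) * z := by rw [← hxz]; group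
          _ = x⁻¹ * (x * a) * z := by rw [hxa]
          _ = a * z := by group
    · have e : x⁻¹ * g * v * (x⁻¹ * g)⁻¹ = x⁻¹ * (g * v * g⁻¹) * x := by group
      rw [e, h]
      first
        | (left; exact hx3)
        | (right
           calc x⁻¹ * (a * v * z) * x = x⁻¹ * (a * v) * (z * x) := by group
             _ = (x⁻¹ * (a * v) * x) * z := by rw [← hxz]; group
             _ = v * z := by rw [hx3])

section fin

variable [Finite G]

omit [Finite G] in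
/-- **`S` centralises `K0 / (K0 ∩ B)`** -/
theorem S_le_NN (m : Mov Q A z a S B P) : S ≤ m.NN := by
  intro s hs
  have hsB := m.S_le hs
  have hsX : s ∈ m.X0 := m.P_le (m.BP hsB)
  obtain ⟨l, hl, hk⟩ := m.exists_split hsX (m.B_comm s hsB) (m.B_a s hsB)
  have h1 : l⁻¹ * s ∈ B := mul_mem (inv_mem (m.S_le (m.toCfg.QX_le_S hl))) hsB
  have h2 := mul_mem (m.U_le_NN hl) (m.KB_le_NN ⟨hk, h1⟩)
  rwa [mul_inv_cancel_left] at h2

omit [Finite G] in
/-- `K0 ∩ L ≤ B` -/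
theorem K0_inf_L (m : Mov Q A z a S B P) {L : Subgroup G} (hc : Cap z S B L) {k : G} (hk : k ∈ m.K0) (hL : k ∈ L) :
    k ∈ B := by
  apply hc.max k hL
  intro s hs
  have h1 := (m.S_le_NN hs).2 k hk
  have h2 : k * s * k⁻¹ ∈ B := by
    have e : k * s * k⁻¹ = (s * k * s⁻¹ * k⁻¹)⁻¹ * s := by group
    rw [e]
    exact mul_mem (inv_mem h1.2) (m.S_le hs)
  obtain ⟨n, hn⟩ := m.toCfg.exists_pow hs
  refine m.S_of _ h2 n ?_
  rw [conj_pow, hn]; group

omit [Finite G] in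
/-- **`X0` centralises `K0 / (K0 ∩ B)`** -/
theorem X0_le_NN (m : Mov Q A z a S B P) : m.X0 ≤ m.NN := by
  obtain ⟨L, hPL, hc⟩ := m.cap
  refine sup_le m.A_le_NN ?_
  intro g hg
  rw [mem_NN]
  refine ⟨m.P_le hg, fun k hk => ?_⟩
  have h0 : g * k * g⁻¹ * k⁻¹ ∈ m.K0 := m.K0.mul_mem (m.conj_K0 (m.P_le hg) hk) (m.K0.inv_mem hk)
  refine ⟨h0, m.K0_inf_L hc h0 ?_⟩
  have e : g * k * g⁻¹ * k⁻¹ = g * (k * g⁻¹ * k⁻¹) := by group
  rw [e]
  exact mul_mem (hPL hg) (hc.norm k (m.K0_comm_z hk) _ (inv_mem (hPL hg)))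

/-! ### The index of `K0 B` is odd -/

/-- the stabiliser of the point `z` -/
def Cz (m : Mov Q A z a S B P) : Subgroup G := m.X0 ⊓ Subgroup.centralizer {z}

omit [Finite G] in
theorem mem_Cz (m : Mov Q A z a S B P) {g : G} : g ∈ m.Cz ↔ g ∈ m.X0 ∧ g * z = z * g := by
  show g ∈ m.X0 ⊓ Subgroup.centralizer {z} ↔ _
  rw [Subgroup.mem_inf, Subgroup.mem_centralizer_singleton_iff]

/-- the stabiliser of the flag `(z, ⟨z, a⟩)` -/
def Fl (m : Mov Q A z a S B P) : Subgroup G where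
  carrier := {g | g ∈ m.X0 ∧ g * z = z * g ∧ (g * a * g⁻¹ = a ∨ g * a * g⁻¹ = a * z)}
  one_mem' := ⟨one_mem _, by group, Or.inl (by group)⟩
  mul_mem' := by
    rintro x y ⟨hx, hx1, hx2⟩ ⟨hy, hy1, hy2⟩
    refine ⟨mul_mem hx hy, by rw [mul_assoc, hy1, ← mul_assoc, hx1, mul_assoc], ?_⟩
    have e : x * y * a * (x * y)⁻¹ = x * (y * a * y⁻¹) * x⁻¹ := by group
    rw [e]
    rcases hy2 with h | h <;> rw [h]
    · exact hx2
    · have e2 : x * (a * z) * x⁻¹ = (x * a * x⁻¹) * (x * z * x⁻¹) := by group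
      have e3 : x * z * x⁻¹ = z := by rw [hx1]; group
      rw [e2, e3]
      rcases hx2 with h | h <;> rw [h]
      · right; rfl
      · left; rw [mul_assoc, m.toCfg.zz, mul_one]
  inv_mem' := by
    rintro x ⟨hx, hx1, hx2⟩
    refine ⟨inv_mem hx, comm_inv_of hx1, ?_⟩
    rw [inv_inv]
    rcases hx2 with h | h
    · left
      calc x⁻¹ * a * x = x⁻¹ * (x * a * x⁻¹) * x := by rw [h]
        _ = a := by group
    · right
      have h1 : x * (a * z) * x⁻¹ = a := m.toCfg.conj_az_of hx1 h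
      calc x⁻¹ * a * x = x⁻¹ * (x * (a * z) * x⁻¹) * x := by rw [h1]
        _ = a * z := by group

omit [Finite G] in
theorem mem_Fl (m : Mov Q A z a S B P) {g : G} : g ∈ m.Fl ↔
    g ∈ m.X0 ∧ g * z = z * g ∧ (g * a * g⁻¹ = a ∨ g * a * g⁻¹ = a * z) := Iff.rfl

omit [Finite G] in
theorem Fl_le (m : Mov Q A z a S B P) : m.Fl ≤ m.K0 ⊔ B := by
  intro g hg
  obtain ⟨h1, h2, h3⟩ := m.mem_Fl.1 hg
  obtain ⟨l, hl, hk⟩ := m.exists_split h1 h2 h3
  have h4 : l ∈ m.K0 ⊔ B := (le_sup_right : B ≤ m.K0 ⊔ B) (m.S_le (m.toCfg.QX_le_S hl))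
  have h5 := mul_mem h4 ((le_sup_left : m.K0 ≤ m.K0 ⊔ B) hk)
  rwa [mul_inv_cancel_left] at h5

omit [Finite G] in
/-- the elements of `Y` outside `⟨z⟩` -/
theorem exists_of_Y (m : Mov Q A z a S B P) {y : G} (hy : y ∈ m.Y) (h1 : y ≠ 1) (hz : y ≠ z) :
    ∃ b ∈ P, b⁻¹ * y * b = a ∨ b⁻¹ * y * b = a * z := by
  obtain ⟨hyQ, h2 | h2⟩ := hy
  · exfalso
    rcases m.p.lz.pr_eq_zero.1 h2 with h3 | h3
    · exact h1 h3
    · exact hz h3
  · obtain ⟨⟨b, hb⟩, hb'⟩ := h2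
    have h3 : m.rho ⟨b, hb⟩ (m.p.lz.pr ⟨a, m.p.a_mem⟩) = m.p.lz.pr ⟨y, hyQ⟩ := hb'
    rw [m.rho_pr hb m.p.a_mem, m.p.lz.pr_eq_pr] at h3
    have hbz := m.Pz b hb
    refine ⟨b, hb, ?_⟩
    rcases h3 with h3 | h3
    · have h3' : b * a * b⁻¹ = y := h3
      left; rw [← h3']; group
    · have h3' : b * a * b⁻¹ = y * z := h3
      right
      have h4 : y = b * a * b⁻¹ * z := by rw [h3', mul_assoc, m.toCfg.zz, mul_one]
      rw [h4]
      calc b⁻¹ * (b * a * b⁻¹ * z) * b = a * b⁻¹ * (z * b) := by group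
        _ = a * z := by rw [← hbz]; group

omit [Finite G] in
/-- `X0` is transitive on the points -/
theorem exists_X0 (m : Mov Q A z a S B P) {y : G} (hy : y ∈ m.Y) (h1 : y ≠ 1) : ∃ g ∈ m.X0, g * z * g⁻¹ = y := by
  by_cases hz : y = z
  · exact ⟨1, one_mem _, by rw [hz]; group⟩
  · obtain ⟨b, hb, h2⟩ := m.exists_of_Y hy h1 hz
    obtain ⟨x, hx, h3⟩ := m.toCfg.exists_mem (Or.inr h2)
    refine ⟨b * x, mul_mem (m.P_le hb) (m.P0_le hx), ?_⟩
    calc b * x * z * (b * x)⁻¹ = b * (x * z * x⁻¹) * b⁻¹ := by group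
      _ = y := by rw [h3]; group

theorem odd_Cz (m : Mov Q A z a S B P) : Odd (m.Cz.relIndex m.X0) := by
  classical
  let _ : MulAction m.X0 G := MulAction.compHom G ((MulAut.conj : G →* MulAut G).comp m.X0.subtype)
  have hsm : ∀ (g : m.X0) (x : G), g • x = (g : G) * x * (g : G)⁻¹ := fun g x => rfl
  have h1 : m.Cz.subgroupOf m.X0 = MulAction.stabilizer m.X0 z := by
    ext g
    rw [Subgroup.mem_subgroupOf, m.mem_Cz, MulAction.mem_stabilizer_iff, hsm, mul_inv_eq_iff_eq_mul]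
    exact ⟨fun h => h.2, fun h => ⟨g.2, h⟩⟩
  have h2 : MulAction.orbit m.X0 z = (m.Y : Set G) \ {1} := by
    ext y
    constructor
    · rintro ⟨g, rfl⟩
      refine ⟨m.conj_Y g.2 m.z_mem_Y, ?_⟩
      intro h
      have h' : (g : G) * z * (g : G)⁻¹ = 1 := h
      apply m.p.lz.z_ne
      calc z = (g : G)⁻¹ * ((g : G) * z * (g : G)⁻¹) * g := by group
        _ = 1 := by rw [h']; group
    · rintro ⟨hy, h⟩
      obtain ⟨g, hg, e⟩ := m.exists_X0 hy h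
      exact ⟨⟨g, hg⟩, e⟩
  have h3 : m.Cz.relIndex m.X0 = ((m.Y : Set G) \ {1}).ncard := by
    show (m.Cz.subgroupOf m.X0).index = _
    rw [h1, MulAction.index_stabilizer, h2]
  have h4 : ((m.Y : Set G) \ {1}).ncard = Nat.card m.Y - 1 := by
    rw [Set.ncard_sdiff_singleton_of_mem (one_mem _)]
    rfl
  have h5 : 2 ∣ Nat.card m.Y := by
    have h6 : orderOf (⟨z, m.z_mem_Y⟩ : m.Y) = 2 := by
      apply orderOf_eq_prime
      · apply Subtype.ext
        show z ^ 2 = 1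
        rw [pow_two]; exact m.toCfg.zz
      · intro h
        exact m.p.lz.z_ne (congrArg Subtype.val h)
    rw [← h6]; exact orderOf_dvd_natCard _
  have h7 : 0 < Nat.card m.Y := Nat.card_pos
  rw [h3, h4]
  obtain ⟨k, hk⟩ := h5
  exact ⟨k - 1, by omega⟩

omit [Finite G] in
theorem relIndex_Fl (m : Mov Q A z a S B P) : m.Fl.relIndex m.Cz = 3 := by
  have hP : P ≤ m.Cz := fun g hg => m.mem_Cz.2 ⟨m.P_le hg, m.Pz g hg⟩
  rw [relIndex_eq_of_cover hP ?_]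
  · have h1 : m.Fl ⊓ P = B := by
      apply le_antisymm
      · rintro g ⟨h1, h2⟩
        exact m.mem_B_of_fix h2 ((m.rho_va h2).2 (m.mem_Fl.1 h1).2.2)
      · intro b hb
        exact ⟨m.mem_Fl.2 ⟨m.P_le (m.BP hb), m.B_comm b hb, m.B_a b hb⟩, m.BP hb⟩
    rw [← Subgroup.inf_relIndex_right, h1]
    exact m.idx
  · intro g hg
    obtain ⟨hgX, hgz⟩ := m.mem_Cz.1 hg
    have h1 := m.conj_Y hgX m.a_mem_Y
    obtain ⟨b, hb, h2⟩ := m.exists_of_Y h1 (by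
      intro h
      apply m.toCfg.a_ne
      calc a = g⁻¹ * (g * a * g⁻¹) * g := by group
        _ = 1 := by rw [h]; group) (by
      intro h
      apply m.p.ne
      calc a = g⁻¹ * (g * a * g⁻¹) * g := by group
        _ = g⁻¹ * (z * g) := by rw [h]; group
        _ = z := by rw [← hgz]; group)
    have hbz := m.Pz b hb
    refine ⟨b, hb, m.mem_Fl.2 ⟨mul_mem (inv_mem (m.P_le hb)) hgX, ?_, ?_⟩⟩
    · rw [mul_assoc, hgz, ← mul_assoc, comm_inv_of hbz, mul_assoc]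
    · have e : b⁻¹ * g * a * (b⁻¹ * g)⁻¹ = b⁻¹ * (g * a * g⁻¹) * b := by group
      rw [e]; exact h2

omit [Finite G] in
theorem K0_le_X0 (m : Mov Q A z a S B P) : m.K0 ≤ m.X0 := fun _ h => (m.mem_K0.1 h).1

theorem odd_KB (m : Mov Q A z a S B P) : Odd ((m.K0 ⊔ B).relIndex m.X0) := by
  have h1 : m.Fl.relIndex m.X0 = 3 * m.Cz.relIndex m.X0 := by
    rw [← m.relIndex_Fl]
    exact (Subgroup.relIndex_mul_relIndex m.Fl m.Cz m.X0 (fun g hg => m.mem_Cz.2 ⟨(m.mem_Fl.1 hg).1, (m.mem_Fl.1 hg).2.1⟩)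
      (fun g hg => (m.mem_Cz.1 hg).1)).symm
  have h2 : Odd (m.Fl.relIndex m.X0) := by
    rw [h1]; exact Odd.mul (by decide) m.odd_Cz
  have h3 : (m.K0 ⊔ B).relIndex m.X0 ∣ m.Fl.relIndex m.X0 := Subgroup.relIndex_dvd_of_le_left m.X0 m.Fl_le
  exact Odd.of_dvd_nat h2 h3

/-! ### `X0` is perfect modulo `K0 ∩ B` -/

omit [Finite G] in
/-- an element of `Q` which commutes with `a` and with `v` is in `K0 ∩ B` -/
theorem mem_KB_of (m : Mov Q A z a S B P) {v : G} (hv : v ∈ Q) (hv1 : m.p.lz.pr ⟨v, hv⟩ ∈ m.orb)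
    (hv2 : m.p.lz.pr ⟨v, hv⟩ ≠ m.va) {q : G} (hq : q ∈ Q) (h1 : q * a = a * q) (h2 : q * v = v * q) :
    q ∈ m.K0 ⊓ B := by
  have hqz := m.p.lz.comm_z q hq
  refine ⟨m.mem_K0.2 ⟨m.P_le (m.BP (m.toCfg.Q_le_B hq)), fun y hy => ?_⟩, m.toCfg.Q_le_B hq⟩
  have h4 : q * (a * v) = a * v * q := by rw [← mul_assoc, h1, mul_assoc, h2, ← mul_assoc]
  have h5 : ∀ w : G, q * w = w * q → q * (w * z) = w * z * q := by
    intro w hw
    rw [← mul_assoc, hw, mul_assoc, hqz, ← mul_assoc]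
  rcases m.cases_Y hv hv1 hv2 hy with ((h | h) | (h | h)) | ((h | h) | (h | h)) <;> rw [h]
  · rw [mul_one, one_mul]
  · exact hqz
  · exact h1
  · exact h5 _ h1
  · exact h2
  · exact h5 _ h2
  · exact h4
  · exact h5 _ h4

omit [Finite G] in
/-- **`X0` is perfect modulo `K0 ∩ B`**, up to a group of odd order -/
theorem X0_le_of_perf (m : Mov Q A z a S B P) {W : Subgroup G} (hKB : m.K0 ⊓ B ≤ W)
    (hcom : ∀ x ∈ m.X0, ∀ y ∈ m.X0, x * y * x⁻¹ * y⁻¹ ∈ W) (h3 : ∀ x ∈ m.X0, x ^ 3 ∈ W → x ∈ W) : m.X0 ≤ W := by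
  have hconj : ∀ x ∈ m.X0, ∀ w ∈ W, w ∈ m.X0 → x * w * x⁻¹ ∈ W := by
    intro x hx w hw hwX
    have e : x * w * x⁻¹ = (x * w * x⁻¹ * w⁻¹) * w := by group
    rw [e]; exact mul_mem (hcom x hx w hwX) hw
  have hBX : B ≤ m.X0 := fun b hb => m.P_le (m.BP hb)
  have hQX : Q ≤ m.X0 := fun q hq => hBX (m.toCfg.Q_le_B hq)
  obtain ⟨g0, hg0, hm1, hm2⟩ := m.mv
  obtain ⟨v, hvdef⟩ : ∃ v, v = g0 * a * g0⁻¹ := ⟨_, rfl⟩
  have hv : v ∈ Q := by rw [hvdef]; exact m.conj_mem hg0 m.p.a_mem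
  have hv1 : m.p.lz.pr ⟨v, hv⟩ ∈ m.orb := by
    refine ⟨⟨g0, hg0⟩, ?_⟩
    show m.rho ⟨g0, hg0⟩ (m.p.lz.pr ⟨a, m.p.a_mem⟩) = _
    rw [m.rho_pr hg0 m.p.a_mem]
    congr 1
    exact Subtype.ext hvdef.symm
  have hva : v ≠ a := by rw [hvdef]; exact hm1
  have hvaz : v ≠ a * z := by rw [hvdef]; exact hm2
  have hv2 : m.p.lz.pr ⟨v, hv⟩ ≠ m.va := by
    intro h
    rcases (m.va_eq hv).1 h with h1 | h1
    · exact hva h1
    · exact hvaz h1
  have hv0 := m.orb_ne_zero hv1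
  have hvn1 : v ≠ 1 := fun h => hv0 (m.p.lz.pr_eq_zero.2 (Or.inl h))
  have hvnz : v ≠ z := fun h => hv0 (m.p.lz.pr_eq_zero.2 (Or.inr h))
  have hvY : v ∈ m.Y := ⟨hv, Or.inr hv1⟩
  have hvz := m.p.lz.comm_z v hv
  have hKBof : ∀ q ∈ Q, q * a = a * q → q * v = v * q → q ∈ m.K0 ⊓ B := fun q hq h1 h2 =>
    m.mem_KB_of hv hv1 hv2 hq h1 h2
  -- conjugation by elements of `Q`
  have hQc : ∀ q ∈ Q, ∀ w ∈ Q, q * w * q⁻¹ = w ∨ q * w * q⁻¹ = w * z := by
    intro q hq w hw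
    rcases m.p.lz.comm q hq w hw with h1 | h1
    · left; rw [h1]; group
    · right
      rw [h1, mul_assoc w q z, m.p.lz.comm_z q hq]
      group
  have hsame : ∀ q ∈ Q, ∀ q' ∈ Q, q * a * q⁻¹ = q' * a * q'⁻¹ → q * v * q⁻¹ = q' * v * q'⁻¹ → q⁻¹ * q' ∈ W := by
    intro q hq q' hq' h1 h2
    apply hKB
    apply hKBof _ (mul_mem (inv_mem hq) hq')
    · rw [← mul_inv_eq_iff_eq_mul]
      calc q⁻¹ * q' * a * (q⁻¹ * q')⁻¹ = q⁻¹ * (q' * a * q'⁻¹) * q := by group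
        _ = q⁻¹ * (q * a * q⁻¹) * q := by rw [h1]
        _ = a := by group
    · rw [← mul_inv_eq_iff_eq_mul]
      calc q⁻¹ * q' * v * (q⁻¹ * q')⁻¹ = q⁻¹ * (q' * v * q'⁻¹) * q := by group
        _ = q⁻¹ * (q * v * q⁻¹) * q := by rw [h2]
        _ = v := by group
  obtain ⟨r, hr, hra, hrv⟩ := exists_sep m.p.lz m.p.a_mem hv hvn1 hvnz hva hvaz
  obtain ⟨r', hr', hrv', hra'⟩ := exists_sep m.p.lz hv m.p.a_mem m.toCfg.a_ne m.p.ne (Ne.symm hva) (by
    intro h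
    apply hvaz
    rw [h, mul_assoc, m.toCfg.zz, mul_one])
  have hra1 : r * a * r⁻¹ = a := by rw [hra]; group
  have hrv1 : r' * v * r'⁻¹ = v := by rw [hrv']; group
  have hrKB : r ∉ m.K0 ⊓ B := by
    intro h
    have h1 := (m.mem_K0.1 h.1).2 v hvY
    have h2 : v * z = v := by rw [← hrv, h1]; group
    exact m.p.lz.z_ne (mul_eq_left.1 h2)
  -- a conjugate of `r` does not centralise `a` and `v`
  have hcj : ∀ g ∈ P, ¬ (g * r * g⁻¹ ∈ m.K0 ⊓ B) := by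
    intro g hg h
    apply hrKB
    have h1 := m.conj_KB (inv_mem (m.P_le hg)) h
    have e : g⁻¹ * (g * r * g⁻¹) * g⁻¹⁻¹ = r := by group
    rwa [e] at h1
  have hrs : ∀ g ∈ P, r⁻¹ * (g * r * g⁻¹) ∈ W := by
    intro g hg
    have h1 := hcom _ (inv_mem (hQX hr)) g (m.P_le hg)
    rw [inv_inv] at h1
    have e : r⁻¹ * (g * r * g⁻¹) = r⁻¹ * g * r * g⁻¹ := by group
    rw [e]; exact h1
  -- first conjugate
  have c1 : r⁻¹ * r' ∈ W := by
    have hs : g0 * r * g0⁻¹ ∈ Q := m.conj_mem hg0 hr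
    have hsv : (g0 * r * g0⁻¹) * v = v * (g0 * r * g0⁻¹) := by
      rw [hvdef]
      calc (g0 * r * g0⁻¹) * (g0 * a * g0⁻¹) = g0 * (r * a) * g0⁻¹ := by group
        _ = g0 * (a * r) * g0⁻¹ := by rw [hra]
        _ = _ := by group
    have h1 : (g0 * r * g0⁻¹) * a * (g0 * r * g0⁻¹)⁻¹ = a * z := by
      rcases hQc _ hs a m.p.a_mem with h | h
      · exfalso
        exact hcj g0 hg0 (hKBof _ hs (by rw [← mul_inv_eq_iff_eq_mul]; exact h) hsv)
      · exact h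
    have h2 := hsame _ hs r' hr' (h1.trans hra'.symm) (by
      rw [hsv, hrv1]; group)
    have h4 := mul_mem (hrs g0 hg0) h2
    have e : r⁻¹ * (g0 * r * g0⁻¹) * ((g0 * r * g0⁻¹)⁻¹ * r') = r⁻¹ * r' := by group
    rwa [e] at h4
  -- second conjugate
  have c2 : r' ∈ W := by
    have hav : m.p.lz.pr ⟨a * v, mul_mem m.p.a_mem hv⟩ ∈ m.orb := by
      have e : m.p.lz.pr ⟨a * v, mul_mem m.p.a_mem hv⟩ = m.va + m.p.lz.pr ⟨v, hv⟩ :=
        m.p.lz.pr_mul ⟨a, m.p.a_mem⟩ ⟨v, hv⟩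
      rw [e, m.orb_eq hv1 hv2]; simp
    obtain ⟨⟨g1, hg1⟩, h1⟩ := hav
    have h1' : m.rho ⟨g1, hg1⟩ (m.p.lz.pr ⟨a, m.p.a_mem⟩) = m.p.lz.pr ⟨a * v, mul_mem m.p.a_mem hv⟩ := h1
    rw [m.rho_pr hg1 m.p.a_mem, m.p.lz.pr_eq_pr] at h1'
    have hs : g1 * r * g1⁻¹ ∈ Q := m.conj_mem hg1 hr
    have hrz := m.p.lz.comm_z r hr
    have hsz := m.p.lz.comm_z _ hs
    have hg1z := m.Pz g1 hg1
    have hs0 : (g1 * r * g1⁻¹) * (g1 * a * g1⁻¹) = (g1 * a * g1⁻¹) * (g1 * r * g1⁻¹) := by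
      calc (g1 * r * g1⁻¹) * (g1 * a * g1⁻¹) = g1 * (r * a) * g1⁻¹ := by group
        _ = g1 * (a * r) * g1⁻¹ := by rw [hra]
        _ = _ := by group
    have hsav : (g1 * r * g1⁻¹) * (a * v) = (a * v) * (g1 * r * g1⁻¹) := by
      rcases h1' with h | h
      · have h' : g1 * a * g1⁻¹ = a * v := h
        rw [h'] at hs0; exact hs0
      · have h' : g1 * a * g1⁻¹ = a * v * z := h
        rw [h'] at hs0
        have h2 : (g1 * r * g1⁻¹) * (a * v) * z = (a * v) * (g1 * r * g1⁻¹) * z := by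
          rw [mul_assoc _ (a * v) z, hs0, mul_assoc (a * v) z, ← hsz, ← mul_assoc]
        exact mul_right_cancel h2
    have h2 : (g1 * r * g1⁻¹) * a * (g1 * r * g1⁻¹)⁻¹ = a * z := by
      rcases hQc _ hs a m.p.a_mem with h | h
      · exfalso
        have ha' : (g1 * r * g1⁻¹) * a = a * (g1 * r * g1⁻¹) := by rw [← mul_inv_eq_iff_eq_mul]; exact h
        apply hcj g1 hg1 (hKBof _ hs ha' ?_)
        have h5 : a * ((g1 * r * g1⁻¹) * v) = a * (v * (g1 * r * g1⁻¹)) := by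
          rw [← mul_assoc, ← ha', mul_assoc, hsav, mul_assoc]
        exact mul_left_cancel h5
      · exact h
    have h4 : (g1 * r * g1⁻¹) * v * (g1 * r * g1⁻¹)⁻¹ = v * z := by
      have h5 : (g1 * r * g1⁻¹) * (a * v) * (g1 * r * g1⁻¹)⁻¹ = a * v := by rw [hsav]; group
      have h6 : (g1 * r * g1⁻¹) * (a * v) * (g1 * r * g1⁻¹)⁻¹ =
          ((g1 * r * g1⁻¹) * a * (g1 * r * g1⁻¹)⁻¹) * ((g1 * r * g1⁻¹) * v * (g1 * r * g1⁻¹)⁻¹) := by group
      rw [h5, h2] at h6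
      have h7 : (g1 * r * g1⁻¹) * v * (g1 * r * g1⁻¹)⁻¹ = (a * z)⁻¹ * (a * v) := by rw [h6]; group
      rw [h7, mul_inv_rev, m.p.lz.z_inv]
      have h8 : z * a⁻¹ * (a * v) = z * v := by group
      rw [h8, hvz]
    have h5 := hsame _ hs (r * r') (mul_mem hr hr') (by
        rw [h2]
        calc a * z = r * (a * z) * r⁻¹ := by
              rw [← mul_assoc, hra, mul_assoc a r z, hrz]; group
          _ = r * (r' * a * r'⁻¹) * r⁻¹ := by rw [hra']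
          _ = _ := by group) (by
        rw [h4]
        calc v * z = r * v * r⁻¹ := hrv.symm
          _ = r * (r' * v * r'⁻¹) * r⁻¹ := by rw [hrv1]
          _ = _ := by group)
    have h6 := mul_mem (hrs g1 hg1) h5
    have e : r⁻¹ * (g1 * r * g1⁻¹) * ((g1 * r * g1⁻¹)⁻¹ * (r * r')) = r' := by group
    rwa [e] at h6
  have c3 : r ∈ W := by
    have h1 := mul_mem c2 (inv_mem c1)
    have e : r' * (r⁻¹ * r')⁻¹ = r := by group
    rwa [e] at h1
  have hQW : Q ≤ W := by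
    intro q hq
    have h1 : ∀ q' ∈ Q, q' ∈ W → q' * a * q'⁻¹ = q * a * q⁻¹ → q' * v * q'⁻¹ = q * v * q⁻¹ → q ∈ W := by
      intro q' hq' hW h2 h4
      have h5 := mul_mem hW (hsame q' hq' q hq h2 h4)
      rwa [mul_inv_cancel_left] at h5
    have hrz := m.p.lz.comm_z r hr
    rcases hQc q hq a m.p.a_mem with h2 | h2 <;> rcases hQc q hq v hv with h4 | h4
    · exact h1 1 (one_mem _) (one_mem _) (by rw [h2]; group) (by rw [h4]; group)
    · exact h1 r hr c3 (by rw [h2, hra1]) (by rw [h4, hrv])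
    · exact h1 r' hr' c2 (by rw [h2, hra']) (by rw [h4, hrv1])
    · refine h1 (r * r') (mul_mem hr hr') (mul_mem c3 c2) ?_ ?_
      · rw [h2]
        calc r * r' * a * (r * r')⁻¹ = r * (r' * a * r'⁻¹) * r⁻¹ := by group
          _ = r * (a * z) * r⁻¹ := by rw [hra']
          _ = a * z := by rw [← mul_assoc, hra, mul_assoc a r z, hrz]; group
      · rw [h4]
        calc r * r' * v * (r * r')⁻¹ = r * (r' * v * r'⁻¹) * r⁻¹ := by group
          _ = v * z := by rw [hrv1, hrv]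
  have hAW : A ≤ W := by
    intro x hx
    obtain ⟨k, hk, hkz⟩ := m.toCfg.exists_mem (u := a) (Or.inr (Or.inl rfl))
    have h1 := m.toCfg.mem_Q_of hkz hx
    have h2 := hconj k (m.P0_le hk) _ (hQW h1) (hQX h1)
    have e : k * (k⁻¹ * x * k) * k⁻¹ = x := by group
    rwa [e] at h2
  have hBW : B ≤ W := by
    intro b hb
    obtain ⟨l, hl, hk⟩ := m.exists_split (hBX hb) (m.B_comm b hb) (m.B_a b hb)
    have h0 : l⁻¹ * b ∈ B := mul_mem (inv_mem (m.S_le (m.toCfg.QX_le_S hl))) hb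
    have h1 : l⁻¹ * b ∈ W := hKB (Subgroup.mem_inf.2 ⟨hk, h0⟩)
    have h2 : (A ⊓ Subgroup.centralizer {z} ⊔ Q : Subgroup G) ≤ W := sup_le (inf_le_left.trans hAW) hQW
    have h4 := mul_mem (h2 hl) h1
    rwa [mul_inv_cancel_left] at h4
  refine sup_le hAW ?_
  intro x hx
  let H : Subgroup P := W.subgroupOf P
  have hH : H.Normal := ⟨fun w hw g => hconj g (m.P_le g.2) w hw (m.P_le w.2)⟩
  have h1 : H.index ∣ 3 := by
    have h2 : B.subgroupOf P ≤ H := fun b hb => hBW hb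
    have h4 := Subgroup.index_dvd_of_le h2
    have h5 : (B.subgroupOf P).index = 3 := m.idx
    rwa [h5] at h4
  have h2 : (⟨x, hx⟩ : P) ^ H.index ∈ H := Subgroup.pow_index_mem H _
  rcases (Nat.dvd_prime Nat.prime_three).1 h1 with h4 | h4
  · rw [h4, pow_one] at h2
    exact h2
  · rw [h4] at h2
    exact h3 x (m.P_le hx) h2

/-- **`K0 ≤ B`** -/
theorem K0_le_B (m : Mov Q A z a S B P) : m.K0 ≤ B := by
  classical
  let K1 : Subgroup m.X0 := (m.K0 ⊓ B).subgroupOf m.X0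
  have hK1 : K1.Normal := ⟨fun x hx g => m.conj_KB g.2 hx⟩
  let π : m.X0 →* m.X0 ⧸ K1 := QuotientGroup.mk' K1
  have hπ : Function.Surjective π := QuotientGroup.mk'_surjective K1
  have hπ1 : ∀ x : m.X0, π x = 1 ↔ (x : G) ∈ m.K0 ⊓ B := fun x => QuotientGroup.eq_one_iff x
  obtain ⟨L, hPL, hc⟩ := m.cap
  have h := eq_bot_of_transfer (X := m.X0 ⧸ K1) (N := (m.K0.subgroupOf m.X0).map π) (D := (B.subgroupOf m.X0).map π)
    (by
      rintro _ ⟨k, hk, rfl⟩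
      rw [Subgroup.mem_center_iff]
      intro g
      obtain ⟨x, rfl⟩ := hπ g
      have h1 := (m.X0_le_NN x.2).2 k hk
      have h2 : π (x * k * x⁻¹ * k⁻¹) = 1 := (hπ1 _).2 h1
      rw [map_mul, map_mul, map_mul, map_inv, map_inv, mul_inv_eq_one, mul_inv_eq_iff_eq_mul] at h2
      exact h2)
    (by
      rintro _ ⟨k, hk, rfl⟩ ⟨b, hb, e⟩
      rw [hπ1]
      have h1 : π (b⁻¹ * k) = 1 := by rw [map_mul, map_inv, e, inv_mul_cancel]
      have h2 := (hπ1 _).1 h1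
      have h4 : (k : G) = (b : G) * ((b⁻¹ * k : m.X0) : G) := by
        rw [← Subgroup.coe_mul, mul_inv_cancel_left]
      exact ⟨hk, by rw [h4]; exact mul_mem hb h2.2⟩)
    (by
      have h1 : ((m.K0.subgroupOf m.X0).map π ⊔ (B.subgroupOf m.X0).map π).index ∣ (m.K0 ⊔ B).relIndex m.X0 := by
        rw [← Subgroup.map_sup, ← Subgroup.subgroupOf_sup m.K0_le_X0 (fun b hb => m.P_le (m.BP hb))]
        exact Subgroup.index_map_dvd _ hπ
      exact Odd.of_dvd_nat m.odd_KB h1)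
    (by
      rintro ⟨_, k, hk, rfl⟩
      obtain ⟨n, hn⟩ := hc.pow k (m.K0_comm_z hk)
      refine ⟨n, Subtype.ext ?_⟩
      show π k ^ 2 ^ n = 1
      rw [← map_pow, hπ1]
      exact ⟨pow_mem hk _, m.K0_inf_L hc (pow_mem hk _) hn⟩)
    (by
      intro W hW h1 h2
      have h4 : m.X0 ≤ (W.comap π).map m.X0.subtype := by
        apply m.X0_le_of_perf
        · intro x hx
          refine ⟨⟨x, m.K0_le_X0 hx.1⟩, ?_, rfl⟩
          show π _ ∈ W
          rw [(hπ1 _).2 hx]; exact one_mem _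
        · intro x hx y hy
          refine ⟨⟨x, hx⟩ * ⟨y, hy⟩ * (⟨x, hx⟩ : m.X0)⁻¹ * (⟨y, hy⟩ : m.X0)⁻¹, ?_, rfl⟩
          show π _ ∈ W
          rw [map_mul, map_mul, map_mul, map_inv, map_inv]
          exact h1 _ _
        · rintro x hx ⟨y, hy, e⟩
          refine ⟨⟨x, hx⟩, ?_, rfl⟩
          show π _ ∈ W
          apply h2
          have h5 : (⟨x, hx⟩ : m.X0) ^ 3 = y := Subtype.ext e.symm
          rw [← map_pow, h5]
          exact hy
      rw [eq_top_iff]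
      intro g _
      obtain ⟨x, rfl⟩ := hπ g
      obtain ⟨y, hy, e⟩ := h4 x.2
      have h5 : y = x := Subtype.ext e
      rw [← h5]; exact hy)
  intro k hk
  have h1 : π ⟨k, m.K0_le_X0 hk⟩ ∈ (m.K0.subgroupOf m.X0).map π := ⟨_, hk, rfl⟩
  rw [h, Subgroup.mem_bot, hπ1] at h1
  exact h1.2

/-- **the stabiliser of the flag** -/
theorem flag (m : Mov Q A z a S B P) {g : G} (hg : g ∈ m.X0) (hz : g * z = z * g)
    (ha : g * a * g⁻¹ = a ∨ g * a * g⁻¹ = a * z) : g ∈ B := by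
  obtain ⟨l, hl, hk⟩ := m.exists_split hg hz ha
  have h1 := mul_mem (m.S_le (m.toCfg.QX_le_S hl)) (m.K0_le_B hk)
  rwa [mul_inv_cancel_left] at h1

/-- **(f1)** `C_{X0}(z) = P` -/
theorem mem_P_of (m : Mov Q A z a S B P) {g : G} (hg : g ∈ m.X0) (hz : g * z = z * g) : g ∈ P := by
  have h1 := m.conj_Y hg m.a_mem_Y
  obtain ⟨b, hb, h2⟩ := m.exists_of_Y h1 (by
    intro h
    apply m.toCfg.a_ne
    calc a = g⁻¹ * (g * a * g⁻¹) * g := by group
      _ = 1 := by rw [h]; group) (by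
    intro h
    apply m.p.ne
    calc a = g⁻¹ * (g * a * g⁻¹) * g := by group
      _ = g⁻¹ * (z * g) := by rw [h]; group
      _ = z := by rw [← hz]; group)
  have hbz := m.Pz b hb
  have h3 : b⁻¹ * g ∈ B := by
    apply m.flag (mul_mem (inv_mem (m.P_le hb)) hg)
    · rw [mul_assoc, hz, ← mul_assoc, comm_inv_of hbz, mul_assoc]
    · have e : b⁻¹ * g * a * (b⁻¹ * g)⁻¹ = b⁻¹ * (g * a * g⁻¹) * b := by group
      rw [e]; exact h2
  have h4 := mul_mem hb (m.BP h3)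
  rwa [mul_inv_cancel_left] at h4

/-- **(f2)** `N_{X0}(⟨z, a⟩) = P0` -/
theorem mem_P0_of (m : Mov Q A z a S B P) {g : G} (hg : g ∈ m.X0)
    (hz : g * z * g⁻¹ = z ∨ g * z * g⁻¹ = a ∨ g * z * g⁻¹ = a * z)
    (ha : g * a * g⁻¹ = z ∨ g * a * g⁻¹ = a ∨ g * a * g⁻¹ = a * z) : g ∈ P0 A B := by
  obtain ⟨x, hx, hxz⟩ := m.toCfg.exists_mem hz
  have h1 := m.toCfg.conj_V (inv_mem hx) ha
  have e : x⁻¹ * (g * a * g⁻¹) * x⁻¹⁻¹ = (x⁻¹ * g) * a * (x⁻¹ * g)⁻¹ := by group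
  rw [e] at h1
  have h2 : (x⁻¹ * g) * z * (x⁻¹ * g)⁻¹ = z := by
    calc (x⁻¹ * g) * z * (x⁻¹ * g)⁻¹ = x⁻¹ * (g * z * g⁻¹) * x := by group
      _ = x⁻¹ * (x * z * x⁻¹) * x := by rw [hxz]
      _ = z := by group
  have h3 : (x⁻¹ * g) * z = z * (x⁻¹ * g) := by rw [← mul_inv_eq_iff_eq_mul]; exact h2
  have h4 : x⁻¹ * g ∈ B := by
    apply m.flag (mul_mem (inv_mem (m.P0_le hx)) hg) h3
    rcases h1 with h1 | h1
    · exfalso
      apply m.p.ne
      have h5 := h1.trans h2.symm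
      have h6 := mul_right_cancel h5
      exact mul_left_cancel h6
    · exact h1
  have h5 := mul_mem hx (B_le h4)
  rwa [mul_inv_cancel_left] at h5

/-- **(1)** any two points are collinear -/
theorem point (m : Mov Q A z a S B P) {g : G} (hg : g ∈ m.X0) :
    ∃ b ∈ P, ∃ x ∈ P0 A B, ∃ b' ∈ P, g = b * x * b' := by
  by_cases hz : g * z * g⁻¹ = z
  · exact ⟨1, one_mem _, 1, one_mem _, g, m.mem_P_of hg (by rw [← mul_inv_eq_iff_eq_mul]; exact hz), by group⟩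
  · have h1 := m.conj_Y hg m.z_mem_Y
    obtain ⟨b, hb, h2⟩ := m.exists_of_Y h1 (by
      intro h
      apply m.p.lz.z_ne
      calc z = g⁻¹ * (g * z * g⁻¹) * g := by group
        _ = 1 := by rw [h]; group) hz
    obtain ⟨x, hx, hxz⟩ := m.toCfg.exists_mem (Or.inr h2)
    refine ⟨b, hb, x, hx, x⁻¹ * (b⁻¹ * g), ?_, by group⟩
    apply m.mem_P_of (mul_mem (inv_mem (m.P0_le hx)) (mul_mem (inv_mem (m.P_le hb)) hg))
    rw [← mul_inv_eq_iff_eq_mul]
    calc x⁻¹ * (b⁻¹ * g) * z * (x⁻¹ * (b⁻¹ * g))⁻¹ = x⁻¹ * (b⁻¹ * (g * z * g⁻¹) * b) * x := by group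
      _ = x⁻¹ * (x * z * x⁻¹) * x := by rw [hxz]
      _ = z := by group

/-- **(2)** any two lines meet -/
theorem line (m : Mov Q A z a S B P) {g : G} (hg : g ∈ m.X0) :
    ∃ x ∈ P0 A B, ∃ b ∈ P, ∃ x' ∈ P0 A B, g = x * b * x' := by
  -- a common point
  have key : ∃ u, (u = z ∨ u = a ∨ u = a * z) ∧ (g * u * g⁻¹ = z ∨ g * u * g⁻¹ = a ∨ g * u * g⁻¹ = a * z) := by
    obtain ⟨g0, hg0, hm1, hm2⟩ := m.mv
    obtain ⟨v, hvdef⟩ : ∃ v, v = g0 * a * g0⁻¹ := ⟨_, rfl⟩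
    have hv : v ∈ Q := by rw [hvdef]; exact m.conj_mem hg0 m.p.a_mem
    have hv1 : m.p.lz.pr ⟨v, hv⟩ ∈ m.orb := by
      refine ⟨⟨g0, hg0⟩, ?_⟩
      show m.rho ⟨g0, hg0⟩ (m.p.lz.pr ⟨a, m.p.a_mem⟩) = _
      rw [m.rho_pr hg0 m.p.a_mem]
      congr 1
      exact Subtype.ext hvdef.symm
    have hv2 : m.p.lz.pr ⟨v, hv⟩ ≠ m.va := by
      intro h
      rcases (m.va_eq hv).1 h with h1 | h1
      · exact hm1 (hvdef ▸ h1)
      · exact hm2 (hvdef ▸ h1)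
    have hvz := m.p.lz.comm_z v hv
    have hvca := m.comm_a_of_orb hv hv1
    have hvv := m.sq_of_orb hv hv1
    have haz := m.toCfg.comm_az
    have hone : ∀ w : G, w ≠ 1 → g * w * g⁻¹ ≠ 1 := by
      intro w hw h
      apply hw
      calc w = g⁻¹ * (g * w * g⁻¹) * g := by group
        _ = 1 := by rw [h]; group
    have haz1 : a * z ≠ 1 := by
      intro h
      apply m.p.ne
      rw [eq_inv_of_mul_eq_one_left h, m.p.lz.z_inv]
    rcases m.cases_Y hv hv1 hv2 (m.conj_Y hg m.z_mem_Y) with h1 | h1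
    · refine ⟨z, Or.inl rfl, ?_⟩
      rcases h1 with (h1 | h1) | h1
      · exact absurd h1 (hone z m.p.lz.z_ne)
      · exact Or.inl h1
      · exact Or.inr h1
    · rcases m.cases_Y hv hv1 hv2 (m.conj_Y hg m.a_mem_Y) with h2 | h2
      · refine ⟨a, Or.inr (Or.inl rfl), ?_⟩
        rcases h2 with (h2 | h2) | h2
        · exact absurd h2 (hone a m.toCfg.a_ne)
        · exact Or.inl h2
        · exact Or.inr h2
      · refine ⟨a * z, Or.inr (Or.inr rfl), ?_⟩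
        have e : g * (a * z) * g⁻¹ = (g * a * g⁻¹) * (g * z * g⁻¹) := by group
        have h3 := hone (a * z) haz1
        -- both factors are in `v ⟨a, z⟩`
        have hw : ∀ w : G, ((w = v ∨ w = v * z) ∨ (w = a * v ∨ w = a * v * z)) →
            ∃ c, (c = 1 ∨ c = z ∨ c = a ∨ c = a * z) ∧ w = v * c := by
          rintro w ((h | h) | (h | h))
          · exact ⟨1, Or.inl rfl, by rw [h, mul_one]⟩
          · exact ⟨z, Or.inr (Or.inl rfl), h⟩
          · exact ⟨a, Or.inr (Or.inr (Or.inl rfl)), by rw [h, hvca]⟩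
          · exact ⟨a * z, Or.inr (Or.inr (Or.inr rfl)), by rw [h, ← hvca, mul_assoc]⟩
        obtain ⟨c1, hc1, e1⟩ := hw _ h1
        obtain ⟨c2, hc2, e2⟩ := hw _ h2
        have hc2v : c2 * v = v * c2 := by
          rcases hc2 with rfl | rfl | rfl | rfl
          · rw [mul_one, one_mul]
          · exact hvz.symm
          · exact hvca.symm
          · rw [mul_assoc, ← hvz, ← mul_assoc, ← hvca, mul_assoc]
        have e3 : g * (a * z) * g⁻¹ = c2 * c1 := by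
          rw [e, e1, e2]
          calc v * c2 * (v * c1) = v * (c2 * v) * c1 := by group
            _ = (v * v) * c2 * c1 := by rw [hc2v]; group
            _ = c2 * c1 := by rw [hvv, one_mul]
        rw [e3] at h3 ⊢
        have haa := m.toCfg.aa
        have hzz := m.toCfg.zz
        have p1 : a * (a * z) = z := by rw [← mul_assoc, haa, one_mul]
        have p2 : z * (a * z) = a := by rw [← mul_assoc, ← haz, mul_assoc, hzz, mul_one]
        have p3 : (a * z) * a = z := by rw [haz, mul_assoc, haa, mul_one]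
        have p4 : (a * z) * z = a := by rw [mul_assoc, hzz, mul_one]
        have p5 : (a * z) * (a * z) = 1 := by rw [mul_assoc, p2, haa]
        have p6 : z * a = a * z := haz.symm
        rcases hc1 with h | h | h | h <;> rcases hc2 with h' | h' | h' | h' <;> rw [h, h'] at h3 ⊢ <;>
          simp only [mul_one, one_mul, haa, hzz, p1, p2, p3, p4, p5, p6, true_or, or_true, ne_eq,
            not_true_eq_false] at h3 ⊢
  obtain ⟨u, hu, hgu⟩ := key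
  obtain ⟨x2, hx2, e2⟩ := m.toCfg.exists_mem hu
  obtain ⟨x1, hx1, e1⟩ := m.toCfg.exists_mem hgu
  refine ⟨x1, hx1, x1⁻¹ * g * x2, ?_, x2⁻¹, inv_mem hx2, by group⟩
  apply m.mem_P_of (mul_mem (mul_mem (inv_mem (m.P0_le hx1)) hg) (m.P0_le hx2))
  rw [← mul_inv_eq_iff_eq_mul]
  calc x1⁻¹ * g * x2 * z * (x1⁻¹ * g * x2)⁻¹ = x1⁻¹ * (g * (x2 * z * x2⁻¹) * g⁻¹) * x1 := by group
    _ = x1⁻¹ * (x1 * z * x1⁻¹) * x1 := by rw [e2, e1]
    _ = z := by group

omit [Finite G] in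
/-- **(3)** two lines through two points coincide -/
theorem girth (m : Mov Q A z a S B P) {x b b' x' : G} (hx : x ∈ P0 A B) (hb : b ∈ P) (hb' : b' ∈ P)
    (hx' : x' ∈ P0 A B) (e : x * b = b' * x') : x ∈ B ∨ b ∈ B := by
  have hbz := m.Pz b hb
  have h1 : x * z * x⁻¹ = b' * (x' * z * x'⁻¹) * b'⁻¹ := by
    calc x * z * x⁻¹ = x * (z * b) * b⁻¹ * x⁻¹ := by group
      _ = (x * b) * z * (x * b)⁻¹ := by rw [← hbz]; group
      _ = b' * (x' * z * x'⁻¹) * b'⁻¹ := by rw [e]; group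
  have hb'z := m.Pz b' hb'
  have hbase : ∀ u, (u = a ∨ u = a * z) → x * z * x⁻¹ = b' * u * b'⁻¹ → x ∈ B ∨ b ∈ B := by
    intro u hu h2
    right
    have h3 : m.rho ⟨b', hb'⟩ m.va = m.va := by
      rw [m.rho_va]
      have h4 : b' * u * b'⁻¹ = z ∨ b' * u * b'⁻¹ = a ∨ b' * u * b'⁻¹ = a * z := by
        rw [← h2]; exact m.toCfg.conj_z hx
      have h5 : b'⁻¹ * z * b' = z := by rw [mul_assoc, ← hb'z]; group
      rcases hu with rfl | rfl
      · rcases h4 with h4 | h4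
        · exfalso
          apply m.p.ne
          calc u = b'⁻¹ * (b' * u * b'⁻¹) * b' := by group
            _ = z := by rw [h4, h5]
        · exact h4
      · have h6 : b' * (a * z) * b'⁻¹ = b' * a * b'⁻¹ * z := by
          calc b' * (a * z) * b'⁻¹ = b' * a * b'⁻¹ * (b' * z * b'⁻¹) := by group
            _ = b' * a * b'⁻¹ * z := by rw [hb'z]; group
        have h7 : b' * a * b'⁻¹ = b' * (a * z) * b'⁻¹ * z := by
          rw [h6, mul_assoc (b' * a * b'⁻¹) z z, m.toCfg.zz, mul_one]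
        rw [h7]
        rcases h4 with h4 | h4 | h4
        · exfalso
          apply m.toCfg.az_ne
          calc a * z = b'⁻¹ * (b' * (a * z) * b'⁻¹) * b' := by group
            _ = z := by rw [h4, h5]
        · right; rw [h4]
        · left; rw [h4, mul_assoc, m.toCfg.zz, mul_one]
    have h4 : b' ∈ B := m.mem_B_of_fix hb' h3
    have h5 : b = x⁻¹ * (b' * x') := by rw [← e]; group
    apply m.toCfg.mem_B_of _ hbz
    rw [h5]
    exact mul_mem (inv_mem hx) (mul_mem (B_le h4) hx')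
  rcases m.toCfg.conj_z hx' with h2 | h2 | h2
  · left
    apply m.toCfg.mem_B_of hx
    rw [← mul_inv_eq_iff_eq_mul, h1, h2, hb'z]; group
  · exact hbase a (Or.inl rfl) (by rw [h1, h2])
  · exact hbase (a * z) (Or.inr rfl) (by rw [h1, h2])

end fin

end Mov

end Cfsg.Agent.Omega.ThmID
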