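import Cfsg.Agent.Omega.ThmID.Sys

/-!
# THEOREM ID, part 4: the parabolic system inside the group `G0` which it generates

`gp_sub`: the polygons of a system of subgroups of `H ≤ G` in `H`.
`sys_sub`: the input of THEOREM FREE for the group `G0 = ⟨P0, P j⟩`, which is not supposed to be `G`.
`C_le_normalizer`, `V_le_normalizer`: `C_G(z)` and `N_G(⟨z, a⟩)` normalise `G0 = ⟨A, L⟩`, `L` normal in `C_G(z)`.
-/

set_option autoImplicit false

namespace Cfsg.Agent.Omega.ThmID

open Cfsg.Agent.Co2Type.Quad Cfsg.Agent.LargeExtra.Base Cfsg.Agent.ParSys Cfsg.Agent.ParSys.Free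
  Cfsg.Agent.ParSys.RankTwo

section galleries

variable {C C' I : Type*} {A : I → C → C → Prop} {A' : I → C' → C' → Prop} {ι : C → C'}

theorem isGal_map_iff (hA : ∀ i c d, A i c d ↔ A' i (ι c) (ι d)) {f : List I} {c : C} {l : List C} :
    IsGal A f c l ↔ IsGal A' f (ι c) (l.map ι) := by
  induction f generalizing c l with
  | nil => simp
  | cons i f ih =>
    cases l with
    | nil => exact Iff.rfl
    | cons d l => rw [List.map_cons, isGal_cons_cons, isGal_cons_cons, ih, hA]

theorem isGal_lift (hcl : ∀ i c e, A' i (ι c) e → ∃ d, ι d = e) {f : List I} {c : C}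
    {l' : List C'} (h : IsGal A' f (ι c) l') : ∃ l : List C, l' = l.map ι := by
  induction f generalizing c l' with
  | nil => exact ⟨[], by rw [isGal_nil_iff.1 h]; rfl⟩
  | cons i f ih =>
    obtain ⟨e, l'', rfl, h1, h2⟩ := isGal_cons_iff.1 h
    obtain ⟨d, rfl⟩ := hcl i c e h1
    obtain ⟨l, rfl⟩ := ih h2
    exact ⟨d :: l, rfl⟩

theorem getLastD_map {c : C} {l : List C} : (l.map ι).getLastD (ι c) = ι (l.getLastD c) := by
  induction l generalizing c with
  | nil => rfl
  | cons d l ih => rw [List.map_cons, List.getLastD_cons, List.getLastD_cons, ih]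

end galleries

variable {G : Type*} [Group G]

/-- the chamber system of a subgroup which contains the parabolics -/
theorem gp_sub {H B : Subgroup G} {I : Type*} {P : I → Subgroup G} {m : I → I → ℕ} (hBP : ∀ i, B ≤ P i)
    (hP : ∀ i, P i ≤ H) (h : GP B P m) : GP (B.subgroupOf H) (fun i => (P i).subgroupOf H) m := by
  let ι : H ⧸ B.subgroupOf H → G ⧸ B := Quotient.map' (fun x => (x : G)) (by
    intro x y h
    rw [QuotientGroup.leftRel_apply] at h ⊢
    exact h)
  have hι : ∀ x : H, ι (QuotientGroup.mk x) = QuotientGroup.mk (x : G) := fun _ => rfl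
  have hinj : Function.Injective ι := by
    intro x y
    induction x using QuotientGroup.induction_on with
    | _ x =>
    induction y using QuotientGroup.induction_on with
    | _ y =>
    intro h
    rw [hι, hι, QuotientGroup.eq] at h
    rw [QuotientGroup.eq]
    exact h
  have hBP' : ∀ i, B.subgroupOf H ≤ (P i).subgroupOf H := fun i x hx => hBP i hx
  have hA : ∀ i c d, adj (B.subgroupOf H) (fun i => (P i).subgroupOf H) i c d ↔ adj B P i (ι c) (ι d) := by
    intro i c d
    induction c using QuotientGroup.induction_on with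
    | _ x =>
    induction d using QuotientGroup.induction_on with
    | _ y =>
    rw [adj_mk hBP', hι, hι, adj_mk hBP]
    exact Iff.rfl
  have hcl : ∀ i c e, adj B P i (ι c) e → ∃ d, ι d = e := by
    intro i c e hce
    induction c using QuotientGroup.induction_on with
    | _ x =>
    induction e using QuotientGroup.induction_on with
    | _ y =>
    rw [hι, adj_mk hBP] at hce
    have h1 : y ∈ H := by
      have h2 := mul_mem x.2 (hP i hce.1)
      rwa [mul_inv_cancel_left] at h2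
    exact ⟨QuotientGroup.mk ⟨y, h1⟩, rfl⟩
  intro i j hij c l hl
  have hl' := (isGal_map_iff hA).1 hl
  obtain ⟨l'', ⟨h1, h2⟩, h3⟩ := h i j hij _ _ hl'
  obtain ⟨k, rfl⟩ := isGal_lift hcl h1
  refine ⟨k, ⟨(isGal_map_iff hA).2 h1, ?_⟩, ?_⟩
  · rw [getLastD_map, getLastD_map] at h2
    exact hinj h2
  · rintro k' ⟨h4, h5⟩
    have h6 := h3 (k'.map ι) ⟨(isGal_map_iff hA).1 h4, by rw [getLastD_map, getLastD_map, h5]⟩
    exact List.map_injective_iff.2 hinj h6

theorem iSup_sub {H : Subgroup G} {I : Type*} {P : I → Subgroup G} (h : ⨆ i, P i = H) :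
    ⨆ i, (P i).subgroupOf H = ⊤ := by
  apply Subgroup.map_injective H.subtype_injective
  rw [Subgroup.map_iSup, ← MonoidHom.range_eq_map, Subgroup.range_subtype]
  simp only [Subgroup.subgroupOf_map_subtype]
  rw [← h]
  apply le_antisymm
  · exact iSup_mono fun i => inf_le_left
  · exact iSup_mono fun i => le_inf le_rfl (le_iSup P i)

namespace Cfg

open Cfg

variable {Q A S B : Subgroup G} {z a : G} (c : Cfg Q A z a S B)

include c

/-- the core: a normal 2-subgroup of `G0` in `S` is trivial if two conjugates of `a` do not commute -/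
theorem core_of [Finite G] {G0 : Subgroup G} (hA : A ≤ G0) (hB : B ≤ G0)
    (hnc : ∃ g ∈ G0, (g * a * g⁻¹) * a ≠ a * (g * a * g⁻¹)) {g : G} (hg : g ∈ S)
    (hx : ∀ x ∈ G0, x⁻¹ * g * x ∈ B) : g = 1 := by
  classical
  by_contra hne
  have hP0 : P0 A B ≤ G0 := sup_le hA hB
  -- the normal subgroup
  let N : Subgroup G :=
    { carrier := {n | ∀ x ∈ G0, x⁻¹ * n * x ∈ S}
      one_mem' := fun x _ => by
        have : x⁻¹ * 1 * x = 1 := by group
        rw [this]; exact one_mem _
      mul_mem' := by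
        intro m n hm hn x hx
        have e : x⁻¹ * (m * n) * x = (x⁻¹ * m * x) * (x⁻¹ * n * x) := by group
        rw [e]; exact mul_mem (hm x hx) (hn x hx)
      inv_mem' := by
        intro m hm x hx
        have e : x⁻¹ * m⁻¹ * x = (x⁻¹ * m * x)⁻¹ := by group
        rw [e]; exact inv_mem (hm x hx) }
  have hN : ∀ n, n ∈ N ↔ ∀ x ∈ G0, x⁻¹ * n * x ∈ S := fun n => Iff.rfl
  have hNconj : ∀ x ∈ G0, ∀ n ∈ N, x * n * x⁻¹ ∈ N := by
    intro x hx n hn y hy
    have e : y⁻¹ * (x * n * x⁻¹) * y = (x⁻¹ * y)⁻¹ * n * (x⁻¹ * y) := by group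
    rw [e]; exact hn _ (mul_mem (inv_mem hx) hy)
  have hNS : N ≤ S := by
    intro n hn
    have := hn 1 (one_mem _)
    have e : (1 : G)⁻¹ * n * 1 = n := by group
    rwa [e] at this
  have hgN : g ∈ N := by
    intro x hx'
    obtain ⟨n, hn⟩ := c.exists_pow hg
    refine c.S_of _ (hx x hx') n ?_
    have e : x⁻¹ * g * x = x⁻¹ * g * x⁻¹⁻¹ := by group
    rw [e, conj_pow, hn]; group
  -- a fixed point of `Q` on `N`
  have hQN : ∀ q ∈ Q, ∀ n ∈ N, q * n * q⁻¹ ∈ N := fun q hq n hn => hNconj q (hB (c.Q_le_B hq)) n hn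
  let _ : MulAction Q N :=
    { smul := fun q n => ⟨(q : G) * n * (q : G)⁻¹, hQN q q.2 n n.2⟩
      one_smul := fun n => Subtype.ext (by show ((1 : Q) : G) * n * ((1 : Q) : G)⁻¹ = n; simp)
      mul_smul := fun q r n => Subtype.ext (by
        show ((q * r : Q) : G) * n * ((q * r : Q) : G)⁻¹ = (q : G) * ((r : G) * n * (r : G)⁻¹) * (q : G)⁻¹
        rw [Subgroup.coe_mul]; group) }
  have hN2 : IsPGroup 2 N := c.S_two.to_le hNS
  have hQ2 : IsPGroup 2 Q := c.S_two.to_le c.Q_le_S
  have h1 := hQ2.card_modEq_card_fixedPoints N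
  have hnt : Nontrivial N := ⟨⟨⟨g, hgN⟩, 1, fun h => hne (congrArg Subtype.val h)⟩⟩
  have h2 : 2 ∣ Nat.card N := by
    obtain ⟨n, hn⟩ := (IsPGroup.iff_card (p := 2) (G := N)).1 hN2
    rw [hn]
    rcases n with _ | n
    · exfalso
      rw [pow_zero, Nat.card_eq_one_iff_unique] at hn
      exact not_subsingleton N hn.1
    · exact dvd_pow_self 2 (Nat.succ_ne_zero n)
  have h3 : 2 ∣ Nat.card (MulAction.fixedPoints Q N) := (Nat.modEq_zero_iff_dvd.1 (h1.symm.trans
    (Nat.modEq_zero_iff_dvd.2 h2)))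
  have h0 : (1 : N) ∈ MulAction.fixedPoints Q N := fun q => Subtype.ext (by
    show (q : G) * ((1 : N) : G) * (q : G)⁻¹ = 1
    simp)
  have h4 : 1 < Nat.card (MulAction.fixedPoints Q N) := by
    have : 0 < Nat.card (MulAction.fixedPoints Q N) := Nat.card_pos_iff.2 ⟨⟨⟨1, h0⟩⟩, inferInstance⟩
    exact Nat.lt_of_lt_of_le (by norm_num) (Nat.le_of_dvd this h3)
  obtain ⟨⟨⟨m, hm⟩, hm'⟩, ⟨⟨n, hn⟩, hn'⟩, hmn⟩ := (Finite.one_lt_card_iff_nontrivial.1 h4).exists_pair_ne
  have key : ∀ (m : G) (hm : m ∈ N), (⟨m, hm⟩ : N) ∈ MulAction.fixedPoints Q N → m ≠ 1 → z ∈ N := by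
    intro m hm hm' hm1
    have h5 : ∀ q ∈ Q, m * q = q * m := by
      intro q hq
      have h6 : q * m * q⁻¹ = m := congrArg Subtype.val (hm' ⟨q, hq⟩)
      rw [mul_inv_eq_iff_eq_mul] at h6
      exact h6.symm
    have h6 : m ∈ Q := c.p.lz.self m (h5 z c.p.lz.z_mem) h5
    rcases c.p.lz.cent m h6 h5 with h7 | h7
    · exact absurd h7 hm1
    · rw [← h7]; exact hm
  have hz : z ∈ N := by
    by_cases hm1 : m = 1
    · refine key n hn hn' ?_
      rintro rfl
      exact hmn (by subst hm1; rfl)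
    · exact key m hm hm' hm1
  -- `N` is in the centraliser of all conjugates of `z`
  have hcz : ∀ n ∈ N, ∀ x ∈ G0, n * (x * z * x⁻¹) = (x * z * x⁻¹) * n := by
    intro n hn x hx
    have h5 := hn x hx
    have h6 := c.B_comm _ (c.S_le h5)
    calc n * (x * z * x⁻¹) = x * ((x⁻¹ * n * x) * z) * x⁻¹ := by group
      _ = x * (z * (x⁻¹ * n * x)) * x⁻¹ := by rw [h6]
      _ = _ := by group
  obtain ⟨k, hk, hka⟩ := c.exists_mem (u := a) (Or.inr (Or.inl rfl))
  have ha : a ∈ N := by
    rw [← hka]; exact hNconj k (hP0 hk) z hz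
  obtain ⟨y, hy, hya⟩ := hnc
  apply hya
  have h5 := hcz a ha (y * k) (mul_mem hy (hP0 hk))
  have e : y * k * z * (y * k)⁻¹ = y * a * y⁻¹ := by rw [← hka]; group
  rw [e] at h5
  exact h5.symm

end Cfg

open Cfg

/-- **THEOREM END**: the input of THEOREM FREE for the group `G0 = ⟨P0, P j⟩`. -/
theorem sys_sub [Finite G] {Q A S B : Subgroup G} {z a : G} (c : Cfg Q A z a S B) {J : Type*}
    {P : J → Subgroup G} {M : J → J → ℕ} {M' : CoxeterMatrix (Option J)} {W : Type*} [Group W]
    (cs : CoxeterSystem M' W) {q : J → ℕ} (hBP : ∀ j, B ≤ P j)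
    (hPz : ∀ j, ∀ x ∈ P j, x * z = z * x) (hgp : GP B P M) (hsome : ∀ i j, M' (some i) (some j) = M i j)
    (hnone : ∀ j, (M' none (some j) = 2 ∧ ∀ x ∈ P j, x * a * x⁻¹ = a ∨ x * a * x⁻¹ = a * z) ∨
      (M' none (some j) = 3 ∧ Mov Q A z a S B (P j)))
    (hcard : ∀ j, B.relIndex (P j) = q j + 1) (htwo : ∀ j, 2 ≤ q j)
    (hpan : ∀ j, ∀ g ∈ S, ∀ x ∈ P j, x ∉ B → x⁻¹ * g * x ∈ B → ∀ y ∈ P j, y⁻¹ * g * y ∈ B)
    {G0 : Subgroup G} (hgen : P0 A B ⊔ ⨆ j, P j = G0)
    (hnc : ∃ g ∈ G0, (g * a * g⁻¹) * a ≠ a * (g * a * g⁻¹)) :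
    Sys cs (B.subgroupOf G0) (fun o => (PP (P0 A B) P o).subgroupOf G0) (S.subgroupOf G0) (qq q) := by
  have hBP' : ∀ o, B ≤ PP (P0 A B) P o := by
    rintro (_ | j)
    · exact B_le
    · exact hBP j
  have hP' : ∀ o, PP (P0 A B) P o ≤ G0 := by
    rintro (_ | j)
    · rw [← hgen]; exact le_sup_left
    · rw [← hgen]; exact (le_iSup P j).trans le_sup_right
  have hsup : ⨆ o, PP (P0 A B) P o = G0 := by
    rw [iSup_option]; exact hgen
  have hBG : B ≤ G0 := (hBP' none).trans (hP' none)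
  exact
  { le := fun o x hx => hBP' o hx
    gen := iSup_sub hsup
    gp := gp_sub hBP' hP' (gp_option c hBP hPz hgp hsome (fun j => M'.symmetric _ _) hnone)
    card := by
      rintro (_ | j)
      · rw [Subgroup.relIndex_subgroupOf (hP' none)]
        exact c.relIndex_eq
      · rw [Subgroup.relIndex_subgroupOf (hP' (some j))]
        exact hcard j
    two := by
      rintro (_ | j)
      · exact le_rfl
      · exact htwo j
    U_le := fun x hx => c.S_le hx
    pan := by
      rintro (_ | j)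
      · intro g hg x hx hxB hgx y hy
        exact pan_of_three B_le c.relIndex_eq g (c.S_le hg) x hx hxB hgx y hy
      · intro g hg x hx hxB hgx y hy
        exact hpan j g hg x hx hxB hgx y hy
    clo := by
      intro g hg x hx
      exact clo_of_mem c.S_two c.S_of g hg x hx
    core := by
      intro g hg h
      apply Subtype.ext
      exact c.core_of ((A_le.trans (hP' none))) hBG hnc hg fun x hx => h ⟨x, hx⟩ }

end Cfsg.Agent.Omega.ThmID
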